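import Cfsg.Agent.HeldCent.Cands
import Cfsg.Agent.HeldMonster.DataOrb

/-!
Finite checks separating five extensions from the centraliser of a transvection: the classes of involutions in the
radical, and the absence of an element of a conjugate radical.
-/

set_option autoImplicit false
set_option maxRecDepth 100000

namespace Cfsg.Lib.HeldMonster

open Cfsg.Lib.HeldCent

/-- Membership in a listed class. -/
def inOrb (o : ℕ × List (ℕ × ℕ)) (a : ℕ) : Bool := o.2.any fun p => Nat.beq p.1 a

/-- The listed classes are classes and cover the involutions. -/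
def orbOK (P : Par) (tbl : List (ℕ × List (ℕ × ℕ))) : Bool :=
  (tbl.all fun o => o.2.all fun p => Nat.blt o.1 128 && Nat.blt p.1 128 && Nat.blt p.2 21504 &&
    Nat.beq (mul P p.2 o.1) (mul P p.1 p.2)) &&
  allB (fun a => Nat.beq a 0 || Nat.beq a 64 || !Nat.beq (qm a a) 0 || tbl.any fun o => inOrb o a) 128

/-- A union of listed classes with the centre. -/
def selL (tbl : List (ℕ × List (ℕ × ℕ))) (bs : List Bool) (a : ℕ) : Bool :=
  Nat.beq a 64 || (tbl.zip bs).any fun p => p.2 && inOrb p.1 a

/-- The size of such a union. -/
def cntL (tbl : List (ℕ × List (ℕ × ℕ))) (bs : List Bool) : ℕ := ((List.range 128).filter (selL tbl bs)).length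

/-- The parameters listed after the first. -/
def parI (i : ℕ) : Par := parL.getD i ⟨0, 0, 0⟩

theorem orb_one : orbOK (parI 1) orbT1 = true := by decide +kernel

theorem orb_two : orbOK (parI 2) orbT2 = true := by decide +kernel

theorem orb_three : orbOK (parI 3) orbT3 = true := by decide +kernel

theorem orb_four : orbOK (parI 4) orbT4 = true := by decide +kernel

theorem orb_five : orbOK (parI 5) orbT5 = true := by decide +kernel

theorem cnt_two : ∀ b c : Bool, cntL orbT2 [b, c] ≠ 29 := by decide +kernel

theorem cnt_three : ∀ b c : Bool, cntL orbT3 [b, c] ≠ 29 := by decide +kernel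

theorem cnt_four : ∀ b c : Bool, cntL orbT4 [b, c] ≠ 29 := by decide +kernel

theorem cnt_five : ∀ b c : Bool, cntL orbT5 [b, c] ≠ 29 := by decide +kernel

theorem cnt_one : ∀ b c d : Bool, cntL orbT1 [b, c, d] = 29 → b = true := by decide +kernel

theorem reps_ok : orbT1.map (·.1) = [1, 8, 10] ∧ orbT2.map (·.1) = [1, 8] ∧ orbT3.map (·.1) = [1, 8] ∧
    orbT4.map (·.1) = [1, 8] ∧ orbT5.map (·.1) = [1, 8] := by decide +kernel

/-- Elements centralising the first code, with inverses. -/
def pairK : List (ℕ × ℕ) := [(19844, 19911), (2801, 2737)]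

theorem pairK_ok : pairK.all (fun k => Nat.blt k.1 21504 && Nat.blt k.2 21504 &&
    Nat.beq (mul (parI 1) k.1 1) (mul (parI 1) 1 k.1) && Nat.beq (mul (parI 1) k.1 k.2) 0) = true := by
  decide +kernel

/-- An element commuting with the first code, with square and commutators in the group it generates. -/
def meetTest (n : ℕ) : Bool :=
  Nat.beq (mul (parI 1) n 1) (mul (parI 1) 1 n) &&
  (Nat.beq (mul (parI 1) n n) 0 || Nat.beq (mul (parI 1) n n) 1) &&
  pairK.all fun k => let y := mul (parI 1) (mul (parI 1) k.1 n) k.2
    Nat.beq (mul (parI 1) n y) (mul (parI 1) y n) || Nat.beq (mul (parI 1) n y) (mul (parI 1) (mul (parI 1) 1 y) n)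

/-- The test fails on a range. -/
def noneOK (start len : ℕ) : Bool := allB (fun j => !meetTest (start + j)) len

theorem none_a : noneOK 128 5344 = true := by decide +kernel

theorem none_b : noneOK 5472 5344 = true := by decide +kernel

theorem none_c : noneOK 10816 5344 = true := by decide +kernel

theorem none_d : noneOK 16160 5344 = true := by decide +kernel

theorem meetTest_false {n : ℕ} (h0 : 128 ≤ n) (h1 : n < 21504) : meetTest n = false := by
  have key : ∀ {start len : ℕ}, noneOK start len = true → start ≤ n → n < start + len → meetTest n = false := by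
    intro start len h a b
    have h' := allB_sound _ h (n - start) (by omega)
    rw [Nat.add_sub_cancel' a] at h'
    simpa using h'
  rcases Nat.lt_or_ge n 5472 with a | a
  · exact key none_a h0 (by omega)
  rcases Nat.lt_or_ge n 10816 with b | b
  · exact key none_b a (by omega)
  rcases Nat.lt_or_ge n 16160 with c | c
  · exact key none_c b (by omega)
  · exact key none_d c (by omega)

/-- Every code but the first commutes with two codes that do not commute. -/
theorem nonab_in_cent : ∀ v : Fin 128, v.val = 0 ∨ ∃ a : Fin 128, qm a.val v.val = qm v.val a.val ∧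
    ∃ b : Fin 128, qm b.val v.val = qm v.val b.val ∧ qm a.val b.val ≠ qm b.val a.val := by decide +kernel

end Cfsg.Lib.HeldMonster
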