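import Cfsg.Agent.Leech.MonsterSection.Top

/-!
Two conjugate extraspecial subgroups over a standard element share fixed points of both kinds.
-/

set_option autoImplicit false
set_option linter.style.haveILetI false
set_option linter.unusedSectionVars false

namespace Cfsg.Lib.Leech.MonsterSection

open Cfsg Cfsg.Lib.Golay Cfsg.Lib.Leech Stab

variable {G : Type*} [Group G] [Finite G] {z : G} {Q : Subgroup (Subgroup.centralizer ({z} : Set G))} [Q.Normal]
  {e : (Subgroup.centralizer ({z} : Set G)) ⧸ Q ≃* Spor.Co1} {ψ : leechLattice → Q ⧸ Subgroup.center Q} {D : Data}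
  {b : Subgroup.centralizer ({z} : Set G)} {B : Subgroup G}

/-- A conjugate equal to a radical element modulo a subgroup of odd order is equal to it. -/
theorem real_conj (hw : IsExtraspecialCentralizerSetting z Q 12) (hbr : orderOf (b : G) = D.r) (hr2 : Odd D.r)
    (hB : B = Subgroup.zpowers (b : G)) {u : Subgroup.centralizer ({z} : Set G)} (hu : u ∈ Q) {g : G}
    (hg : g * b = b * g) (h : (g * z * g⁻¹)⁻¹ * (u : G) ∈ B) : g * z * g⁻¹ = (u : G) := by
  set β := (g * z * g⁻¹)⁻¹ * (u : G) with hβ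
  obtain ⟨n, hn⟩ := hw.2.2.1.1.1 ⟨u, hu⟩
  have hn' : (u : G) ^ 2 ^ n = 1 :=
    congrArg (fun t : Q => ((t : Subgroup.centralizer ({z} : Set G)) : G)) hn
  have he : (u : G) = g * z * g⁻¹ * β := by rw [hβ]; group
  obtain ⟨i, hi'⟩ := Subgroup.mem_zpowers_iff.mp (hB ▸ h : β ∈ Subgroup.zpowers (b : G))
  have hbz : Commute (b : G) (g * z * g⁻¹) :=
    ((show Commute (b : G) g from hg.symm).mul_right (Subgroup.mem_centralizer_singleton_iff.mp b.2)).mul_right
      (show Commute (b : G) g from hg.symm).inv_right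
  have hcomm : Commute (g * z * g⁻¹) β := hi' ▸ (hbz.symm.zpow_right i)
  have hβn : β ^ 2 ^ (n + 1) = 1 := by
    have h3 : (g * z * g⁻¹) ^ 2 ^ (n + 1) = 1 := by
      rw [conj_pow, pow_succ', pow_mul, ← hw.1, pow_orderOf_eq_one, one_pow, mul_one, mul_inv_cancel]
    have h4 : (u : G) ^ 2 ^ (n + 1) = 1 := by rw [pow_succ, pow_mul, hn', one_pow]
    rw [he, hcomm.mul_pow, h3, one_mul] at h4
    exact h4
  have hβ2 : orderOf β ∣ D.r := by
    rw [← hi']
    exact orderOf_dvd_of_pow_eq_one (by rw [← zpow_natCast, ← zpow_mul, mul_comm, zpow_mul, zpow_natCast, ← hbr,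
      pow_orderOf_eq_one, one_zpow])
  have hone := orderOf_eq_one_iff.mp (Nat.eq_one_of_dvd_coprimes
    ((Nat.coprime_two_left.mpr hr2).pow_left (n + 1)) (orderOf_dvd_of_pow_eq_one hβn) hβ2)
  rw [hone, mul_one] at he
  exact he.symm

variable (hw : IsExtraspecialCentralizerSetting z Q 12) (hψ : IsLeechModTwoIso Q e ψ) (hD : ClsOK D)
  {k : Co0} (hb : orderOf b = D.r) (hi : Img e k D.x b)

include hw hψ hD hb in
/-- For a fused fixed point `g z g⁻¹`: the reversed fixed point, and a fixed point of least norm in the meet. -/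
theorem interlock_fixed {p : leechLattice} (hps : (p : GolayPt → ℤ) ∈ singular)
    (hpn : Cfsg.sqNorm (p : GolayPt → ℤ) = 32) (hpx : D.x • p = p) (hstd : ClassHyp z Q e ψ D (fun _ _ => True))
    {u : Subgroup.centralizer ({z} : Set G)} (hu : u ∈ fixQ Q b) {g : G} (hgu : g * z * g⁻¹ = (u : G))
    (huz : (u : G) ≠ z) (hg : g * (b : G) = (b : G) * g) :
    ∃ w ∈ fixQ Q b, (w : G) = g⁻¹ * z * g ∧
      ∃ q ∈ fixQ Q b, ∃ p' ∈ fixQ Q b, (p' : G) = g⁻¹ * (q : G) * g ∧ q ≠ 1 ∧ ¬ IsConj z (q : G) := by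
  obtain ⟨huQ, hub⟩ := mem_fixQ.mp hu
  set a : Q := ⟨u, huQ⟩ with hadef
  have hag : ((a : Subgroup.centralizer ({z} : Set G)) : G) = g * z * g⁻¹ := hgu.symm
  have ha : a ∉ Subgroup.center Q := fun h => by
    rcases center_val hw h with h1 | h1
    · have h2 : z = 1 := by
        calc z = g⁻¹ * (g * z * g⁻¹) * g := by group
          _ = 1 := by rw [← hag, h1, mul_one, inv_mul_cancel]
      have := hw.1
      rw [h2, orderOf_one] at this
      norm_num at this
    · exact huz h1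
  set b' : CQa a := ⟨b, mem_CQa.mpr hub.symm⟩
  have hb' : orderOf b' = D.r := by rw [← Subgroup.orderOf_coe]; exact hb
  obtain ⟨i, hi7, k2, hv, himg⟩ := hstd a (isConj_iff.mpr ⟨g, hag.symm⟩) huz b' hb' trivial
  set b2 := ((b' ^ i : CQa a) : Subgroup.centralizer ({z} : Set G)) with hb2def
  have hb2 : orderOf b2 = D.r := by rw [hb2def, Subgroup.orderOf_coe]; exact hi7
  have hb2i : b2 = b ^ i := by rw [hb2def, Subgroup.coe_zpow]
  have hback : ∀ {x : Subgroup.centralizer ({z} : Set G)}, x * b2 = b2 * x → x * b = b * x := by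
    intro x hx
    have h2 : Subgroup.zpowers b2 = Subgroup.zpowers b := Subgroup.eq_of_le_of_card_ge
      (Subgroup.zpowers_le.mpr (hb2i ▸ Subgroup.zpow_mem _ (Subgroup.mem_zpowers b) i))
      (by rw [Nat.card_zpowers, Nat.card_zpowers, hb, hb2])
    obtain ⟨l, hl⟩ := Subgroup.mem_zpowers_iff.mp (h2 ▸ Subgroup.mem_zpowers b : b ∈ Subgroup.zpowers b2)
    rw [← hl]
    exact ((show Commute x b2 from hx).zpow_right l).eq
  have toFix : ∀ {x : G}, x ∈ QC Q g → x * (b : G) = (b : G) * x →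
      ∃ y ∈ fixQ Q b, (y : G) = g⁻¹ * x * g := by
    intro x hx hxb
    obtain ⟨y, hyQ, hy⟩ := QC_mem.mp hx
    refine ⟨y, mem_fixQ.mpr ⟨hyQ, Subtype.ext ?_⟩, hy⟩
    show (y : G) * (b : G) = (b : G) * y
    rw [show (y : G) = g⁻¹ * x * g from hy]
    have h1 : Commute g (b : G) := hg
    exact (((h1.inv_left).mul_left (show Commute x (b : G) from hxb)).mul_left h1).eq
  have hle := center_le_meet hw hψ hag ha hv
  have hzm : (⟨zC z, zC_mem hw⟩ : Q) ∈ meetSub Q g := hle (Subgroup.mem_center_iff.mpr fun y =>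
    Subtype.ext (Subtype.ext (Subgroup.mem_centralizer_singleton_iff.mp
      (y : Subgroup.centralizer ({z} : Set G)).2)))
  obtain ⟨w, hwf, hwv⟩ := toFix (x := z) hzm (Subgroup.mem_centralizer_singleton_iff.mp b.2).symm
  obtain ⟨hpL, q0, hq0, hq0v⟩ := (mem_classSub hψ).mp ((meet_eq_singular hw hψ hag ha hv).ge hps)
  obtain ⟨q, hqb, hqv⟩ := exists_fix hw hψ hD hb2 himg (D.codeV (p : GolayPt → ℤ))
  have hclass : ψ (k2 • p) = QuotientGroup.mk q := by
    rw [← hqv]
    exact (psi_smul_eq_iff hψ k2).mpr (class_code hD (v := p) (by rw [hpx]; exact SameCls.refl _))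
  have hqm : q ∈ meetSub Q g := by
    have h1 : q0⁻¹ * q ∈ Subgroup.center Q := QuotientGroup.eq.mp (hq0v.symm.trans hclass)
    have h2 := mul_mem hq0 (hle h1)
    rwa [mul_inv_cancel_left] at h2
  have hqc : q ∉ Subgroup.center Q := fun h => by
    rw [(QuotientGroup.eq_one_iff q).mpr h, ← psi_zero hψ,
      show (0 : leechLattice) = k2 • (0 : leechLattice) from (toHom k2).map_zero.symm] at hclass
    obtain ⟨w', hw'⟩ := (psi_smul_eq_iff hψ k2).mp hclass
    rw [zero_add] at hw'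
    have hn : Cfsg.sqNorm (p : GolayPt → ℤ) = 4 * Cfsg.sqNorm (w' : GolayPt → ℤ) := by
      rw [hw']
      show Cfsg.sqNorm ((2 : ℤ) • (w' : GolayPt → ℤ)) = _
      unfold Cfsg.sqNorm
      rw [Finset.mul_sum]
      exact Finset.sum_congr rfl fun j _ => by simp [mul_pow]
    rcases eq_or_ne (w' : GolayPt → ℤ) 0 with h0 | h0
    · rw [h0] at hn
      have : Cfsg.sqNorm (0 : GolayPt → ℤ) = 0 := by simp [Cfsg.sqNorm]
      omega
    · have := thirtytwo_le_sqNorm w'.2 h0
      omega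
  have hqb' := hback hqb
  obtain ⟨p', hp'f, hp'v⟩ := toFix (x := ((q : Subgroup.centralizer ({z} : Set G)) : G)) hqm
    (congrArg Subtype.val hqb')
  refine ⟨w, hwf, hwv, q, mem_fixQ.mpr ⟨q.2, hqb'⟩, p', hp'f, hp'v, fun h => hqc ?_, fun hc => ?_⟩
  · rw [show q = 1 from Subtype.ext h]; exact one_mem _
  · obtain ⟨g', hg'⟩ := isConj_iff.mp hc
    exact fused_norm hw hψ hg'.symm hqc hclass ((k2.2.2 p).trans hpn)

end Cfsg.Lib.Leech.MonsterSection
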