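import Cfsg.Agent.HeldCent.Extend
import Cfsg.Agent.HeldCent.Iso
import Cfsg.Agent.HeldMonster.Checks

/-!
An involution centraliser with quotient SL(3,2) over an extraspecial group of order 128 holding 29 conjugates of the
involution, any two of which are interlocked, is the extension with the first parameters.
-/

set_option autoImplicit false
set_option maxRecDepth 100000

namespace Cfsg.Lib.HeldMonster

open Cfsg.Lib.HeldCent

variable {H : Type*} [Group H]

/-- For a conjugate `g t g⁻¹` of `t` in `R` other than `t`, the conjugate `g⁻¹ t g` lies in `R` as well, and a non-trivial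
element of `R` that is not conjugate to `t` lies in the conjugate of `R`. -/
def Interlock (t : H) (R : Subgroup (Subgroup.centralizer ({t} : Set H))) : Prop :=
  ∀ g : H, (∃ x ∈ R, (x : H) = g * t * g⁻¹) → g * t * g⁻¹ ≠ t →
    (∃ x ∈ R, (x : H) = g⁻¹ * t * g) ∧
      ∃ q ∈ R, (∃ x ∈ R, (x : H) = g⁻¹ * (q : H) * g) ∧ q ≠ 1 ∧ ¬ IsConj t (q : H)

theorem qm_pairs : ∀ a : Fin 128, (qm a.val a.val = 0 ∨ qm a.val a.val = 64) ∧
    ∀ b : Fin 128, qm a.val b.val = qm b.val a.val ∨ qm a.val b.val = qm 64 (qm b.val a.val) := by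
  decide +kernel

theorem selL_map (tbl : List (ℕ × List (ℕ × ℕ))) (f : ℕ → Bool) (a : ℕ) :
    selL tbl (tbl.map fun o => f o.1) a = (Nat.beq a 64 || tbl.any fun o => f o.1 && inOrb o a) := by
  unfold selL
  congr 1
  induction tbl with
  | nil => rfl
  | cons o l ih => simp [ih]

theorem parI_ok : ∀ i : Fin 6, parOK (parI i.val) = true := by decide +kernel

theorem par_cases {P : Par} (hP : P ∈ parL) : ∃ i < 6, P = parI i := by
  obtain ⟨i, hi, rfl⟩ := List.mem_iff_getElem.mp hP
  have h6 : parL.length = 6 := rfl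
  exact ⟨i, by omega, by rw [parI, List.getD_eq_getElem?_getD, List.getElem?_eq_getElem hi, Option.getD_some]⟩

section

variable [Finite H] {t : H} {R : Subgroup (Subgroup.centralizer ({t} : Set H))} {P : Par}
  (D : Gen P (Subgroup.centralizer ({t} : Set H))) (hP : parOK P = true)
  (hinj : Set.InjOn D.η {a | a < 21504}) (hsur : ∀ g, ∃ a < 21504, D.η a = g)
  (ht : orderOf t = 2) (hz : ((D.B.ι 64 : Subgroup.centralizer ({t} : Set H)) : H) = t)
  (hιR : ∀ z < 128, D.B.ι z ∈ R) (hRι : ∀ q ∈ R, ∃ z < 128, D.B.ι z = q)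

omit [Finite H] in
include ht in
theorem conj_sq {x : H} (h : IsConj t x) : x * x = 1 ∧ x ≠ 1 := by
  obtain ⟨g, rfl⟩ := isConj_iff.mp h
  have h2 : t * t = 1 := by rw [← pow_two, ← ht, pow_orderOf_eq_one]
  refine ⟨by calc g * t * g⁻¹ * (g * t * g⁻¹) = g * (t * t) * g⁻¹ := by group
              _ = 1 := by rw [h2, mul_one, mul_inv_cancel], fun e => ?_⟩
  have : t = 1 := by
    calc t = g⁻¹ * (g * t * g⁻¹) * g := by group
      _ = 1 := by rw [e, mul_one, inv_mul_cancel]
  rw [this, orderOf_one] at ht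
  norm_num at ht

omit [Finite H] in
include ht in
theorem ι_fused {a : ℕ} (ha : a < 128) (h : IsConj t ((D.B.ι a : Subgroup.centralizer ({t} : Set H)) : H)) :
    a ≠ 0 ∧ qm a a = 0 := by
  obtain ⟨h1, h2⟩ := conj_sq ht h
  refine ⟨fun e => h2 (by rw [e, D.B.ι_zero]; rfl), D.B.eq_zero D.t_ne (qm_range ha ha) ?_⟩
  rw [D.B.ι_mul ha ha]
  exact Subtype.ext h1

omit [Finite H] in
include hP in
theorem orb_conj {rep a g : ℕ} (hr : rep < 128) (ha : a < 128) (hg : g < 21504) (h : mul P g rep = mul P a g) :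
    IsConj ((D.B.ι rep : Subgroup.centralizer ({t} : Set H)) : H)
      ((D.B.ι a : Subgroup.centralizer ({t} : Set H)) : H) := by
  have e := congrArg D.η h
  rw [D.η_mul hP hg, D.η_mul hP (by omega : a < 21504), D.η_code hr, D.η_code ha] at e
  exact (Subgroup.centralizer ({t} : Set H)).subtype.map_isConj (isConj_iff.mpr ⟨D.η g, by rw [e, mul_inv_cancel_right]⟩)

include hP ht hz hιR hRι in
/-- The conjugates in the radical, as a union of listed classes. -/
theorem count_sel (hcount : Set.ncard {x : Subgroup.centralizer ({t} : Set H) | x ∈ R ∧ IsConj t (x : H)} = 29)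
    {tbl : List (ℕ × List (ℕ × ℕ))} (htbl : orbOK P tbl = true) :
    ∃ F : ℕ → Bool, (∀ a < 128, F a = true → IsConj t ((D.B.ι a : Subgroup.centralizer ({t} : Set H)) : H)) ∧
      cntL tbl ((tbl.map (·.1)).map F) = 29 := by
  classical
  let F : ℕ → Bool := fun a => decide (IsConj t ((D.B.ι a : Subgroup.centralizer ({t} : Set H)) : H))
  refine ⟨F, fun a _ h => of_decide_eq_true h, ?_⟩
  simp only [orbOK, Bool.and_eq_true, List.all_eq_true, Nat.blt_eq] at htbl
  obtain ⟨hcl, hcov⟩ := htbl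
  have hfull : ∀ a < 128, selL tbl (tbl.map fun o => F o.1) a = F a := by
    intro a ha
    rw [selL_map]
    apply Bool.eq_iff_iff.mpr
    simp only [Bool.or_eq_true, List.any_eq_true, Bool.and_eq_true]
    constructor
    · rintro (h | ⟨o, ho, hF, hm⟩)
      · rw [Nat.eq_of_beq_eq_true h]
        exact decide_eq_true (by rw [hz])
      · obtain ⟨p, hp, hpa⟩ := List.any_eq_true.mp hm
        obtain ⟨⟨⟨h1, h2⟩, h3⟩, h4⟩ := hcl o ho p hp
        have := orb_conj D hP h1 h2 h3 (Nat.eq_of_beq_eq_true h4)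
        rw [Nat.eq_of_beq_eq_true hpa] at this
        exact decide_eq_true ((of_decide_eq_true hF).trans this)
    · intro hF
      obtain ⟨h0, hsq⟩ := ι_fused D ht ha (of_decide_eq_true hF)
      have h := allB_sound _ hcov a ha
      rcases Nat.decEq a 64 with h64 | h64
      · have b0 : Nat.beq a 0 = false := by
          cases e : Nat.beq a 0 with
          | false => rfl
          | true => exact absurd (Nat.eq_of_beq_eq_true e) h0
        have b64 : Nat.beq a 64 = false := by
          cases e : Nat.beq a 64 with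
          | false => rfl
          | true => exact absurd (Nat.eq_of_beq_eq_true e) h64
        simp only [b0, b64, hsq, Nat.beq_refl, Bool.not_true, Bool.false_or, List.any_eq_true] at h
        obtain ⟨o, ho, hm⟩ := h
        obtain ⟨p, hp, hpa⟩ := List.any_eq_true.mp hm
        obtain ⟨⟨⟨h1, h2⟩, h3⟩, h4⟩ := hcl o ho p hp
        have := orb_conj D hP h1 h2 h3 (Nat.eq_of_beq_eq_true h4)
        rw [Nat.eq_of_beq_eq_true hpa] at this
        exact Or.inr ⟨o, ho, decide_eq_true ((of_decide_eq_true hF).trans this.symm), hm⟩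
      · exact Or.inl (by rw [h64]; rfl)
  rw [List.map_map]
  show ((List.range 128).filter (selL tbl (tbl.map fun o => F o.1))).length = 29
  rw [List.filter_congr (fun a ha => hfull a (List.mem_range.mp ha))]
  rw [← hcount]
  have hset : {x : Subgroup.centralizer ({t} : Set H) | x ∈ R ∧ IsConj t (x : H)} =
      ↑(((List.range 128).filter F).toFinset.image D.B.ι) := by
    ext x
    simp only [Set.mem_setOf_eq, Finset.coe_image, Set.mem_image, Finset.mem_coe, List.mem_toFinset,
      List.mem_filter, List.mem_range]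
    constructor
    · rintro ⟨hx, hc⟩
      obtain ⟨a, ha, rfl⟩ := hRι x hx
      exact ⟨a, ⟨ha, decide_eq_true hc⟩, rfl⟩
    · rintro ⟨a, ⟨ha, hF⟩, rfl⟩
      exact ⟨hιR a ha, of_decide_eq_true hF⟩
  rw [hset, Set.ncard_coe_finset, Finset.card_image_of_injOn fun a ha b hb h => by
    simp only [Finset.mem_coe, List.mem_toFinset, List.mem_filter, List.mem_range] at ha hb
    exact D.B.ι_inj D.t_ne ha.1 hb.1 h]
  exact (List.toFinset_card_of_nodup (List.nodup_range.filter _)).symm

end

variable [Finite H] {t : H} {R : Subgroup (Subgroup.centralizer ({t} : Set H))} [R.Normal]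
  (ht : orderOf t = 2) (hlink : Interlock t R)

include ht hlink in
/-- The second parameters do not occur. -/
theorem not_second (D : Gen (parI 1) (Subgroup.centralizer ({t} : Set H)))
    (hinj : Set.InjOn D.η {a | a < 21504}) (hsur : ∀ g, ∃ a < 21504, D.η a = g)
    (hz : ((D.B.ι 64 : Subgroup.centralizer ({t} : Set H)) : H) = t)
    (hιR : ∀ z < 128, D.B.ι z ∈ R) (hRι : ∀ q ∈ R, ∃ z < 128, D.B.ι z = q)
    (hu : IsConj t ((D.B.ι 1 : Subgroup.centralizer ({t} : Set H)) : H)) : False := by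
  have hP : parOK (parI 1) = true := parI_ok 1
  set u := ((D.B.ι 1 : Subgroup.centralizer ({t} : Set H)) : H) with hudef
  obtain ⟨g, hg⟩ := isConj_iff.mp hu
  have h1t : u ≠ t := fun e => absurd (D.B.ι_inj D.t_ne (by norm_num) (by norm_num) (Subtype.ext (e.trans hz.symm)))
    (by norm_num : (1 : ℕ) ≠ 64)
  have hu1 : u ≠ 1 := (conj_sq ht hu).2
  have ht2 : t * t = 1 := by rw [← pow_two, ← ht, pow_orderOf_eq_one]
  obtain ⟨⟨v, hvR, hv⟩, -⟩ := hlink g ⟨_, hιR 1 (by norm_num), hg.symm⟩ (hg.symm ▸ h1t)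
  obtain ⟨vc, hvc, rfl⟩ := hRι v hvR
  have hvc0 : vc ≠ 0 := fun e => by
    rw [e, D.B.ι_zero, OneMemClass.coe_one] at hv
    have : t = 1 := by
      calc t = g * (g⁻¹ * t * g) * g⁻¹ := by group
        _ = 1 := by rw [← hv, mul_one, mul_inv_cancel]
    rw [this, orderOf_one] at ht
    norm_num at ht
  obtain ⟨a, hav, b, hbv, hab⟩ := (nonab_in_cent ⟨vc, hvc⟩).resolve_left hvc0
  -- products of radical elements
  have hpair : ∀ c d : Fin 128, ((D.B.ι c * D.B.ι d : Subgroup.centralizer ({t} : Set H)) : H) =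
      ((D.B.ι d * D.B.ι c : Subgroup.centralizer ({t} : Set H)) : H) ∨
      ((D.B.ι c * D.B.ι d : Subgroup.centralizer ({t} : Set H)) : H) =
      t * ((D.B.ι d * D.B.ι c : Subgroup.centralizer ({t} : Set H)) : H) := by
    intro c d
    rw [← D.B.ι_mul c.2 d.2, ← D.B.ι_mul d.2 c.2]
    rcases (qm_pairs c).2 d with h | h
    · exact Or.inl (by rw [h])
    · refine Or.inr ?_
      rw [h, D.B.ι_mul (by norm_num) (qm_range d.2 c.2), Subgroup.coe_mul, hz]
  -- an element of the conjugate radical in the centraliser lies in the radical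
  have main : ∀ c : Fin 128, qm c.val vc = qm vc c.val → ∀ x : Subgroup.centralizer ({t} : Set H),
      (x : H) = g * ((D.B.ι c : Subgroup.centralizer ({t} : Set H)) : H) * g⁻¹ → x ∈ R := by
    intro c _ x hx
    by_contra hxR
    obtain ⟨n, hn, rfl⟩ := hsur x
    have hn128 : 128 ≤ n := by
      by_contra h
      exact hxR (by rw [D.η_code (by omega)]; exact hιR n (by omega))
    set X := ((D.B.ι c : Subgroup.centralizer ({t} : Set H)) : H) with hXdef
    have hXt : X * t = t * X := Subgroup.mem_centralizer_singleton_iff.mp (D.B.ι c).2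
    have hXu : (D.η n : H) * u = u * (D.η n : H) := by
      rw [hx, ← hg]
      calc g * X * g⁻¹ * (g * t * g⁻¹) = g * (X * t) * g⁻¹ := by group
        _ = g * (t * X) * g⁻¹ := by rw [hXt]
        _ = g * t * g⁻¹ * (g * X * g⁻¹) := by group
    have back : ∀ {p q : ℕ}, p < 21504 → q < 21504 → (D.η p : H) = D.η q → p = q :=
      fun hp hq h => hinj hp hq (Subtype.ext h)
    have hone : (D.η 1 : H) = u := by rw [D.η_code (by norm_num)]
    have hmul : ∀ {p : ℕ} (_ : p < 21504) (q : ℕ), (D.η (mul (parI 1) p q) : H) = (D.η p : H) * D.η q :=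
      fun hp q => by rw [D.η_mul hP hp]; rfl
    have h0 : (D.η 0 : H) = 1 := by rw [D.η_code (by norm_num), D.B.ι_zero]; rfl
    have hlt : ∀ {p q : ℕ}, p < 21504 → q < 21504 → mul (parI 1) p q < 21504 := fun hp hq => mul_lt hP hp hq
    have c1 : mul (parI 1) n 1 = mul (parI 1) 1 n := back (hlt hn (by norm_num)) (hlt (by norm_num) hn) (by
      rw [hmul hn, hmul (by norm_num), hone, hXu])
    have c2 : mul (parI 1) n n = 0 ∨ mul (parI 1) n n = 1 := by
      have hXX : X * X = 1 ∨ X * X = t := by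
        rcases (qm_pairs c).1 with h | h
        · exact Or.inl (by rw [hXdef, ← Subgroup.coe_mul, ← D.B.ι_mul c.2 c.2, h, D.B.ι_zero, OneMemClass.coe_one])
        · exact Or.inr (by rw [hXdef, ← Subgroup.coe_mul, ← D.B.ι_mul c.2 c.2, h, hz])
      have hnn : (D.η (mul (parI 1) n n) : H) = g * (X * X) * g⁻¹ := by rw [hmul hn, hx]; group
      rcases hXX with h | h
      · exact Or.inl (back (hlt hn hn) (by norm_num) (by rw [hnn, h, h0]; group))
      · exact Or.inr (back (hlt hn hn) (by norm_num) (by rw [hnn, h, hone, hg]))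
    have hmt := meetTest_false hn128 hn
    have hpk := pairK_ok
    simp only [List.all_eq_true, Bool.and_eq_true, Nat.blt_eq] at hpk
    have c3 : ∀ k ∈ pairK,
        mul (parI 1) n (mul (parI 1) (mul (parI 1) k.1 n) k.2) = mul (parI 1) (mul (parI 1) (mul (parI 1) k.1 n) k.2) n ∨
        mul (parI 1) n (mul (parI 1) (mul (parI 1) k.1 n) k.2) =
          mul (parI 1) (mul (parI 1) 1 (mul (parI 1) (mul (parI 1) k.1 n) k.2)) n := by
      intro k hk
      obtain ⟨⟨⟨k1, k2⟩, k3⟩, k4⟩ := hpk k hk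
      have k3' : (D.η k.1 : H) * u = u * D.η k.1 := by
        rw [← hone, ← hmul k1, ← hmul (by norm_num : 1 < 21504), Nat.eq_of_beq_eq_true k3]
      have k4' : (D.η k.2 : H) = (D.η k.1 : H)⁻¹ := by
        refine eq_inv_of_mul_eq_one_right ?_
        rw [← hmul k1, Nat.eq_of_beq_eq_true k4, h0]
      have hK : g⁻¹ * (D.η k.1 : H) * g ∈ Subgroup.centralizer ({t} : Set H) := by
        refine Subgroup.mem_centralizer_singleton_iff.mpr ?_
        calc g⁻¹ * (D.η k.1 : H) * g * t = g⁻¹ * ((D.η k.1 : H) * (g * t * g⁻¹)) * g := by group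
          _ = g⁻¹ * ((g * t * g⁻¹) * D.η k.1) * g := by rw [hg, k3']
          _ = t * (g⁻¹ * (D.η k.1 : H) * g) := by group
      obtain ⟨d, hd, hde⟩ := hRι _ ((inferInstance : R.Normal).conj_mem _ (hιR c c.2) ⟨_, hK⟩)
      have hY : ((D.B.ι d : Subgroup.centralizer ({t} : Set H)) : H) =
          g⁻¹ * ((D.η k.1 : H) * (D.η n : H) * (D.η k.2 : H)) * g := by
        rw [hde, Subgroup.coe_mul, Subgroup.coe_mul, Subgroup.coe_inv, k4', hx, ← hXdef]
        group
      set y := mul (parI 1) (mul (parI 1) k.1 n) k.2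
      have hy : (D.η y : H) = (D.η k.1 : H) * D.η n * D.η k.2 := by rw [hmul (hlt k1 hn), hmul k1]
      have hyl : y < 21504 := hlt (hlt k1 hn) k2
      rcases hpair c ⟨d, hd⟩ with h | h <;> simp only [Subgroup.coe_mul, ← hXdef] at h <;> rw [hY, ← hy] at h
      · refine Or.inl (back (hlt hn hyl) (hlt hyl hn) ?_)
        rw [hmul hn, hmul hyl, hx]
        calc g * X * g⁻¹ * (D.η y : H) = g * (X * (g⁻¹ * (D.η y : H) * g)) * g⁻¹ := by group
          _ = g * ((g⁻¹ * (D.η y : H) * g) * X) * g⁻¹ := by rw [h]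
          _ = _ := by group
      · refine Or.inr (back (hlt hn hyl) (hlt (hlt (by norm_num) hyl) hn) ?_)
        rw [hmul hn, hmul (hlt (by norm_num) hyl), hmul (by norm_num : 1 < 21504), hone, hx, ← hg]
        calc g * X * g⁻¹ * (D.η y : H) = g * (X * (g⁻¹ * (D.η y : H) * g)) * g⁻¹ := by group
          _ = g * (t * ((g⁻¹ * (D.η y : H) * g) * X)) * g⁻¹ := by rw [h]
          _ = _ := by group
    have : meetTest n = true := by
      simp only [meetTest, Bool.and_eq_true, Bool.or_eq_true, List.all_eq_true]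
      refine ⟨⟨by rw [c1]; exact Nat.beq_refl _, ?_⟩, fun k hk => ?_⟩
      · rcases c2 with h | h <;> rw [h] <;> simp
      · rcases c3 k hk with h | h
        · exact Or.inl (by rw [← h]; exact Nat.beq_refl _)
        · exact Or.inr (by rw [← h]; exact Nat.beq_refl _)
    rw [hmt] at this
    exact absurd this (by simp)
  have mk : ∀ c : Fin 128, qm c.val vc = qm vc c.val →
      g * ((D.B.ι c : Subgroup.centralizer ({t} : Set H)) : H) * g⁻¹ ∈ Subgroup.centralizer ({t} : Set H) := by
    intro c hc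
    refine Subgroup.mem_centralizer_singleton_iff.mpr ?_
    have h : ((D.B.ι c : Subgroup.centralizer ({t} : Set H)) : H) * (g⁻¹ * t * g) =
        g⁻¹ * t * g * ((D.B.ι c : Subgroup.centralizer ({t} : Set H)) : H) := by
      rw [← hv, ← Subgroup.coe_mul, ← Subgroup.coe_mul, ← D.B.ι_mul c.2 hvc, ← D.B.ι_mul hvc c.2, hc]
    calc g * ((D.B.ι c : Subgroup.centralizer ({t} : Set H)) : H) * g⁻¹ * t
        = g * (((D.B.ι c : Subgroup.centralizer ({t} : Set H)) : H) * (g⁻¹ * t * g)) * g⁻¹ := by group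
      _ = g * (g⁻¹ * t * g * ((D.B.ι c : Subgroup.centralizer ({t} : Set H)) : H)) * g⁻¹ := by rw [h]
      _ = _ := by group
  obtain ⟨a', ha', hae⟩ := hRι _ (main a hav ⟨_, mk a hav⟩ rfl)
  obtain ⟨b', hb', hbe⟩ := hRι _ (main b hbv ⟨_, mk b hbv⟩ rfl)
  have hne : ((D.B.ι a * D.B.ι b : Subgroup.centralizer ({t} : Set H)) : H) ≠
      ((D.B.ι b * D.B.ι a : Subgroup.centralizer ({t} : Set H)) : H) := fun e => by
    rw [← D.B.ι_mul a.2 b.2, ← D.B.ι_mul b.2 a.2] at e
    exact hab (D.B.ι_inj D.t_ne (qm_range a.2 b.2) (qm_range b.2 a.2) (Subtype.ext e))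
  have hab' := (hpair a b).resolve_left hne
  rcases hpair ⟨a', ha'⟩ ⟨b', hb'⟩ with h | h <;> simp only [hae, hbe, Subgroup.coe_mul] at h hab'
  · refine hu1 ?_
    calc u = g * (t * (((D.B.ι b : Subgroup.centralizer ({t} : Set H)) : H) *
        ((D.B.ι a : Subgroup.centralizer ({t} : Set H)) : H))) * g⁻¹ *
        (g * ((D.B.ι b : Subgroup.centralizer ({t} : Set H)) : H) * g⁻¹ *
          (g * ((D.B.ι a : Subgroup.centralizer ({t} : Set H)) : H) * g⁻¹))⁻¹ := by rw [← hg]; group
      _ = 1 := by rw [← hab', ← h]; group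
  · refine h1t ?_
    calc u = g * (t * (((D.B.ι b : Subgroup.centralizer ({t} : Set H)) : H) *
        ((D.B.ι a : Subgroup.centralizer ({t} : Set H)) : H))) * g⁻¹ *
        (g * ((D.B.ι b : Subgroup.centralizer ({t} : Set H)) : H) * g⁻¹ *
          (g * ((D.B.ι a : Subgroup.centralizer ({t} : Set H)) : H) * g⁻¹))⁻¹ := by rw [← hg]; group
      _ = (g * ((D.B.ι a : Subgroup.centralizer ({t} : Set H)) : H) * g⁻¹ *
          (g * ((D.B.ι b : Subgroup.centralizer ({t} : Set H)) : H) * g⁻¹)) *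
        (g * ((D.B.ι b : Subgroup.centralizer ({t} : Set H)) : H) * g⁻¹ *
          (g * ((D.B.ι a : Subgroup.centralizer ({t} : Set H)) : H) * g⁻¹))⁻¹ := by rw [← hab']; group
      _ = t := by rw [h, mul_inv_cancel_right]

include ht hlink in
/-- Only the first parameters occur. -/
theorem exists_gen_first (hR : Cfsg.IsExtraspecial 2 R) (hcard : Nat.card R = 128)
    (hself : Subgroup.centralizer (R : Set (Subgroup.centralizer ({t} : Set H))) ≤ R)
    (e : (Subgroup.centralizer ({t} : Set H)) ⧸ R ≃* Matrix.SpecialLinearGroup (Fin 3) (ZMod 2))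
    (hcount : Set.ncard {x : Subgroup.centralizer ({t} : Set H) | x ∈ R ∧ IsConj t (x : H)} = 29) :
    ∃ D : Gen par0 (Subgroup.centralizer ({t} : Set H)), (∀ z < 128, D.B.ι z ∈ R) ∧
      (∀ q ∈ R, ∃ z < 128, D.B.ι z = q) ∧ Set.InjOn D.η {a | a < 21504} ∧ ∀ g, ∃ a < 21504, D.η a = g := by
  set tC : Subgroup.centralizer ({t} : Set H) := ⟨t, Subgroup.mem_centralizer_singleton_iff.mpr rfl⟩
  have tc : ∀ g, tC * g = g * tC := fun g =>
    Subtype.ext (Subgroup.mem_centralizer_singleton_iff.mp g.2).symm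
  have t1 : tC ≠ 1 := fun h => by
    rw [show t = 1 from congrArg Subtype.val h, orderOf_one] at ht
    norm_num at ht
  obtain ⟨P, hP, D, hg6, hιR, hRι, hinj, hsur⟩ := exists_gen R tC tc t1 hR hcard hself e
  have hz : ((D.B.ι 64 : Subgroup.centralizer ({t} : Set H)) : H) = t := by
    rw [show (64 : ℕ) = 2 ^ 6 from rfl, D.B.ι_gen (by norm_num), hg6]
  obtain ⟨r1, r2, r3, r4, r5⟩ := reps_ok
  obtain ⟨i, hi, rfl⟩ := par_cases hP
  interval_cases i
  · exact ⟨D, hιR, hRι, hinj, hsur⟩
  · exfalso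
    obtain ⟨F, hF, hcnt⟩ := count_sel D (parI_ok 1) ht hz hιR hRι hcount orb_one
    rw [r1] at hcnt
    exact not_second ht hlink D hinj hsur hz hιR hRι (hF 1 (by norm_num) (cnt_one _ _ _ hcnt))
  · exfalso
    obtain ⟨F, -, hcnt⟩ := count_sel D (parI_ok 2) ht hz hιR hRι hcount orb_two
    rw [r2] at hcnt
    exact cnt_two _ _ hcnt
  · exfalso
    obtain ⟨F, -, hcnt⟩ := count_sel D (parI_ok 3) ht hz hιR hRι hcount orb_three
    rw [r3] at hcnt
    exact cnt_three _ _ hcnt
  · exfalso
    obtain ⟨F, -, hcnt⟩ := count_sel D (parI_ok 4) ht hz hιR hRι hcount orb_four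
    rw [r4] at hcnt
    exact cnt_four _ _ hcnt
  · exfalso
    obtain ⟨F, -, hcnt⟩ := count_sel D (parI_ok 5) ht hz hιR hRι hcount orb_five
    rw [r5] at hcnt
    exact cnt_five _ _ hcnt

end Cfsg.Lib.HeldMonster
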