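import Cfsg.Agent.HeldMonster.Reduce
import Cfsg.Agent.HeldMonster.Meet

/-!
The section at the involution of a standard element of order seven, as in `Leech/MonsterSection/Local`, with the
interlocking of the radicals.
-/

set_option autoImplicit false
set_option linter.style.haveILetI false
set_option linter.unusedSectionVars false

namespace Cfsg.Lib.Leech.MonsterSection

open Cfsg Cfsg.Lib.Golay Cfsg.Lib.Leech Stab
open scoped commutatorElement

variable {G : Type*} [Group G] [Finite G] {z : G} {Q : Subgroup (Subgroup.centralizer ({z} : Set G))} [Q.Normal]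
  {e : (Subgroup.centralizer ({z} : Set G)) ⧸ Q ≃* Spor.Co1} {ψ : leechLattice → Q ⧸ Subgroup.center Q} {D : Data}

  {P : Type*} [Group P]

variable (hw : IsExtraspecialCentralizerSetting z Q 12) (hψ : IsLeechModTwoIso Q e ψ) (hD : ClsOK D) (ρ : Rep hD P)
variable {b : Subgroup.centralizer ({z} : Set G)} {k : Co0} (hb : orderOf b = D.r) (hi : Img e k D.x b)

variable {B : Subgroup G} [(B.subgroupOf (Subgroup.centralizer (B : Set G))).Normal]
  (hB : B = Subgroup.zpowers (b : G))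

set_option quotPrecheck false in
local notation "Hq" => ↥(Subgroup.centralizer (B : Set G)) ⧸ B.subgroupOf (Subgroup.centralizer (B : Set G))

include hw hψ hD ρ hb hi hB in
/-- The section at the involution, with interlocked radicals. -/
theorem linked_type {w : ℕ} (hw0 : 0 < w) (hm : D.m = 2 * w) (hnd : NondegOK D)
    (hns : ∀ N : Subgroup P, N.Normal → IsPGroup 2 N → N = ⊥) {q0 : Q}
    (hq0 : (q0 : Subgroup.centralizer ({z} : Set G)) * b = b * q0)
    (hq0z : ((q0 : Subgroup.centralizer ({z} : Set G)) : G) ≠ z)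
    (hswap : ∃ c ∈ Subgroup.centralizer (B : Set G), c * ((q0 : Subgroup.centralizer ({z} : Set G)) : G) * c⁻¹ = z)
    {p : leechLattice} (hps : (p : GolayPt → ℤ) ∈ singular) (hpn : Cfsg.sqNorm (p : GolayPt → ℤ) = 32)
    (hpx : D.x • p = p) (hstd : ClassHyp z Q e ψ D (fun _ _ => True)) :
    ∃ (t : Hq) (R : Subgroup (Subgroup.centralizer ({t} : Set Hq))) (_ : R.Normal),
      Cfsg.IsExtraspecialCentralizerSetting t R w ∧
      Nonempty ((Subgroup.centralizer ({t} : Set Hq)) ⧸ R ≃* P) ∧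
      ((∀ q ∈ fixQ Q b, IsConj z (q : G) → ∃ c ∈ Subgroup.centralizer (B : Set G), c * (q : G) * c⁻¹ = z) →
        Set.ncard {x : Subgroup.centralizer ({t} : Set Hq) | x ∈ R ∧ IsConj t (x : Hq)} = 1 + 2 * D.n64) ∧
      HeldMonster.Interlock t R := by
  classical
  have hr2 : Odd D.r := hD.ord.1
  have hbr : orderOf (b : G) = D.r := by rw [Subgroup.orderOf_coe, hb]
  have hBord : ∀ g ∈ B, g * g = 1 → g = 1 := by
    intro g hg hg2
    rw [hB] at hg
    have h1 : orderOf g ∣ 2 := orderOf_dvd_of_pow_eq_one (by rw [pow_two, hg2])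
    have h2 : orderOf g ∣ D.r := by
      obtain ⟨i, rfl⟩ := Subgroup.mem_zpowers_iff.mp hg
      exact orderOf_dvd_of_pow_eq_one (by rw [← zpow_natCast, ← zpow_mul, mul_comm, zpow_mul, zpow_natCast, ← hbr,
        pow_orderOf_eq_one, one_zpow])
    exact orderOf_eq_one_iff.mp (Nat.eq_one_of_dvd_coprimes (Nat.coprime_two_left.mpr hr2) h1 h2)
  have hBQ : ∀ q ∈ Q, (q : G) ∈ B → q = 1 := by
    intro q hq hqB
    obtain ⟨n, hn⟩ := hw.2.2.1.1.1 ⟨q, hq⟩
    have hn' : (q : G) ^ 2 ^ n = 1 := congrArg (fun t : Q => ((t : Subgroup.centralizer ({z} : Set G)) : G)) hn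
    rw [hB] at hqB
    obtain ⟨i, hi'⟩ := Subgroup.mem_zpowers_iff.mp hqB
    have h2 : orderOf (q : G) ∣ D.r := by
      rw [← hi']
      exact orderOf_dvd_of_pow_eq_one (by rw [← zpow_natCast, ← zpow_mul, mul_comm, zpow_mul, zpow_natCast, ← hbr,
        pow_orderOf_eq_one, one_zpow])
    exact Subtype.ext (orderOf_eq_one_iff.mp (Nat.eq_one_of_dvd_coprimes
      ((Nat.coprime_two_left.mpr hr2).pow_left n) (orderOf_dvd_of_pow_eq_one hn') h2))
  have hmemC : ∀ g : G, g ∈ Subgroup.centralizer (B : Set G) ↔ g * b = b * g := by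
    intro g
    rw [hB, Subgroup.mem_centralizer_iff]
    constructor
    · exact fun h => (h _ (Subgroup.mem_zpowers _)).symm
    · intro h y hy
      obtain ⟨i, rfl⟩ := Subgroup.mem_zpowers_iff.mp hy
      exact ((Commute.zpow_right h i).symm).eq
  set K := Subgroup.centralizer ({b} : Set (Subgroup.centralizer ({z} : Set G))) with hKdef
  set η := QuotientGroup.mk' (B.subgroupOf (Subgroup.centralizer (B : Set G))) with hη
  let ι : K →* Subgroup.centralizer (B : Set G) := MonoidHom.mk'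
    (fun u => ⟨((u : Subgroup.centralizer ({z} : Set G)) : G), (hmemC _).mpr
      (congrArg Subtype.val (Subgroup.mem_centralizer_singleton_iff.mp u.2))⟩) fun u v => rfl
  have hzC : z ∈ Subgroup.centralizer (B : Set G) :=
    (hmemC _).mpr (Subgroup.mem_centralizer_singleton_iff.mp b.2).symm
  set t : Hq := η ⟨z, hzC⟩ with ht
  have hker : ∀ g : Subgroup.centralizer (B : Set G), η g = 1 ↔ (g : G) ∈ B := fun g => by
    rw [hη, QuotientGroup.mk'_apply, QuotientGroup.eq_one_iff]; rfl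
  -- the map onto the centraliser
  let θ : K →* Subgroup.centralizer ({t} : Set Hq) := (η.comp ι).codRestrict _ fun u => by
    refine Subgroup.mem_centralizer_singleton_iff.mpr ?_
    rw [MonoidHom.comp_apply, ht, ← map_mul, ← map_mul]
    exact congrArg η (Subtype.ext (Subgroup.mem_centralizer_singleton_iff.mp u.1.2))
  have hθs : Function.Surjective θ := by
    rintro ⟨x, hx⟩
    obtain ⟨g, rfl⟩ := QuotientGroup.mk'_surjective _ x
    have hx' := Subgroup.mem_centralizer_singleton_iff.mp hx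
    rw [ht, ← map_mul, ← map_mul] at hx'
    have h1 : (g * ⟨z, hzC⟩)⁻¹ * (⟨z, hzC⟩ * g) ∈ B.subgroupOf _ := QuotientGroup.eq.mp hx'
    have h1' : ((g : G) * z)⁻¹ * (z * g) ∈ B := h1
    set β := ((g : G) * z)⁻¹ * (z * g) with hβ
    have hc : Commute z β := by
      have hb' : β ∈ Subgroup.zpowers (b : G) := hB ▸ h1'
      obtain ⟨i, hi'⟩ := Subgroup.mem_zpowers_iff.mp hb'
      rw [← hi']
      exact Commute.zpow_right (Subgroup.mem_centralizer_singleton_iff.mp b.2).symm i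
    have hz2 : z * z = 1 := by rw [← pow_two, ← hw.1, pow_orderOf_eq_one]
    have e1 : (g : G)⁻¹ * z * g = z * β := by rw [hβ]; group
    have hone : β = 1 := hBord β h1' (by
      calc β * β = (z * z) * (β * β) := by rw [hz2, one_mul]
        _ = z * (z * β) * β := by group
        _ = z * (β * z) * β := by rw [hc.eq]
        _ = (z * β) * (z * β) := by group
        _ = 1 := by rw [← e1]; calc (g : G)⁻¹ * z * g * ((g : G)⁻¹ * z * g) = (g : G)⁻¹ * (z * z) * g := by group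
                                _ = 1 := by rw [hz2]; group)
    have hgC : (g : G) ∈ Subgroup.centralizer ({z} : Set G) := by
      refine Subgroup.mem_centralizer_singleton_iff.mpr ?_
      calc (g : G) * z = (g : G) * (z * β) := by rw [hone, mul_one]
        _ = (g : G) * ((g : G)⁻¹ * z * g) := by rw [e1]
        _ = z * g := by group
    exact ⟨⟨⟨g, hgC⟩, Subgroup.mem_centralizer_singleton_iff.mpr (Subtype.ext ((hmemC _).mp g.2))⟩,
      Subtype.ext (congrArg η (Subtype.ext rfl))⟩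
  have hθeq : ∀ u v : K, θ u = θ v → ∃ i : ℤ, (u : Subgroup.centralizer ({z} : Set G)) = v * b ^ i := by
    intro u v h
    have h1 : η (ι (v⁻¹ * u)) = 1 := by
      have := congrArg (fun x : Subgroup.centralizer ({t} : Set Hq) => (x : Hq)) h
      simp only [θ, MonoidHom.codRestrict_apply, MonoidHom.comp_apply] at this
      rw [map_mul, map_inv, map_mul, map_inv, this, inv_mul_cancel]
    have h2 : ((v⁻¹ * u : K) : Subgroup.centralizer ({z} : Set G)).1 ∈ B := (hker _).mp h1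
    obtain ⟨i, hi'⟩ := Subgroup.mem_zpowers_iff.mp (hB ▸ h2)
    refine ⟨i, ?_⟩
    have : (b ^ i : Subgroup.centralizer ({z} : Set G)) = (v⁻¹ * u : K).1 := Subtype.ext (by simpa using hi')
    rw [this]; simp
  set FQ : Subgroup K := (fixQ Q b).subgroupOf K with hFQ
  have hinjF : ∀ u ∈ FQ, ∀ v ∈ FQ, θ u = θ v → u = v := by
    intro u hu v hv h
    obtain ⟨i, hi'⟩ := hθeq u v h
    have h1 : (b ^ i : Subgroup.centralizer ({z} : Set G)) ∈ Q := by
      rw [show b ^ i = (v : Subgroup.centralizer ({z} : Set G))⁻¹ * u by rw [hi']; group]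
      exact mul_mem (inv_mem (mem_fixQ.mp hv).1) (mem_fixQ.mp hu).1
    have h2 := hBQ _ h1 (by rw [hB]; exact ⟨i, by simp⟩)
    exact Subtype.ext (by rw [hi', h2, mul_one])
  haveI hFn : FQ.Normal := ⟨fun q hq u => mem_fixQ.mpr ⟨(inferInstance : Q.Normal).conj_mem _ (mem_fixQ.mp hq).1 _,
    Subgroup.mem_centralizer_singleton_iff.mp (u * q * u⁻¹).2⟩⟩
  set R := FQ.map θ with hR
  haveI hRn : R.Normal := Subgroup.Normal.map hFn θ hθs
  -- facts on the fixed points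
  have hFmk : ∀ q ∈ fixQ Q b, ∃ hq : q ∈ K, (⟨q, hq⟩ : K) ∈ FQ := fun q hq =>
    ⟨Subgroup.mem_centralizer_singleton_iff.mpr (mem_fixQ.mp hq).2, hq⟩
  have hRcard : Nat.card R = 2 ^ (2 * w + 1) := by
    rw [← hm, ← card_fixQ hw hψ hD hb hi]
    refine (Nat.card_eq_of_bijective (fun q : fixQ Q b => (⟨θ ⟨q.1, (hFmk _ q.2).1⟩, _, (hFmk _ q.2).2, rfl⟩ : R))
      ⟨fun q p h => ?_, ?_⟩).symm
    · have := hinjF _ (hFmk _ q.2).2 _ (hFmk _ p.2).2 (congrArg Subtype.val h)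
      exact Subtype.ext (congrArg (fun x : K => (x : Subgroup.centralizer ({z} : Set G))) this)
    · rintro ⟨_, u, hu, rfl⟩
      exact ⟨⟨u.1, hu⟩, rfl⟩
  have hzK : zC z ∈ K := Subgroup.mem_centralizer_singleton_iff.mpr (zC_comm b).symm
  have hzF : (⟨zC z, hzK⟩ : K) ∈ FQ := mem_fixQ.mpr ⟨zC_mem hw, (zC_comm b).symm⟩
  set tR : Subgroup.centralizer ({t} : Set Hq) := θ ⟨zC z, hzK⟩ with htR
  have htR' : (tR : Hq) = t := congrArg η (Subtype.ext rfl)
  have horder : orderOf t = 2 := by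
    refine orderOf_eq_prime ?_ fun h => ?_
    · rw [pow_two, ht, ← map_mul]
      exact (hker _).mpr (by
        show z * z ∈ B
        rw [← pow_two, ← hw.1, pow_orderOf_eq_one]; exact one_mem _)
    · exact zC_ne hw (hBQ _ (zC_mem hw) ((hker _).mp h))
  have hex : Cfsg.IsExtraspecial 2 R := by
    have hcases : ∀ u ∈ FQ, ∀ v ∈ FQ, ∀ w' : K, (w' = ⁅u, v⁆ ∨ w' = u * u) → w' = 1 ∨ w' = ⟨zC z, hzK⟩ := by
      intro u hu v hv w' hw'
      set p : Q := ⟨u, (mem_fixQ.mp hu).1⟩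
      set q : Q := ⟨v, (mem_fixQ.mp hv).1⟩
      have hp : ∀ c : Q, c ∈ Subgroup.center Q →
          (c : Subgroup.centralizer ({z} : Set G)) = 1 ∨ (c : Subgroup.centralizer ({z} : Set G)) = zC z :=
        fun c => center_cases' hw
      rcases hw' with rfl | rfl
      · refine Or.imp (fun h => Subtype.ext h) (fun h => Subtype.ext h) (hp ⁅p, q⁆ ?_)
        rw [← QuotientGroup.eq_one_iff, commutatorElement_def]
        simp only [QuotientGroup.mk_mul, QuotientGroup.mk_inv]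
        rw [mul_inv_eq_one, mul_inv_eq_iff_eq_mul, (psi_mul_comm hψ _ _).1]
      · refine Or.imp (fun h => Subtype.ext h) (fun h => Subtype.ext h) (hp (p * p) ?_)
        rw [← QuotientGroup.eq_one_iff, QuotientGroup.mk_mul]
        exact (psi_mul_comm hψ _ (QuotientGroup.mk p)).2 |>.symm ▸
          (psi_mul_comm hψ (QuotientGroup.mk p) (QuotientGroup.mk p)).2
    refine Cfsg.Lib.LargeExtra.isExtraspecial_of (z := tR) (IsPGroup.of_card hRcard) ⟨_, hzF, rfl⟩ (fun h => ?_)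
      ?_ (fun a ha => ?_) ?_ ?_ ?_ ?_
    · have h1 := congrArg Subtype.val h
      rw [htR'] at h1
      rw [h1, OneMemClass.coe_one, orderOf_one] at horder
      omega
    · rw [htR, ← map_mul, show (⟨zC z, hzK⟩ : K) * ⟨zC z, hzK⟩ = 1 from Subtype.ext (zC_sq hw), map_one]
    · exact Subtype.ext (by
        simp only [Subgroup.coe_mul, htR']
        exact Subgroup.mem_centralizer_singleton_iff.mp a.2)
    · rintro _ ⟨u, hu, rfl⟩ _ ⟨v, hv, rfl⟩
      rw [← map_commutatorElement]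
      rcases hcases u hu v hv _ (Or.inl rfl) with h | h <;> rw [h]
      · exact Or.inl (map_one θ)
      · exact Or.inr rfl
    · rintro _ ⟨u, hu, rfl⟩
      rw [← map_mul]
      rcases hcases u hu u hu _ (Or.inr rfl) with h | h <;> rw [h]
      · exact Or.inl (map_one θ)
      · exact Or.inr rfl
    · rintro _ ⟨u, hu, rfl⟩ hc
      have hcen : (⟨u, (mem_fixQ.mp hu).1⟩ : Q) ∈ Subgroup.center Q := by
        refine fix_center hw hψ hD hb hi hnd (mem_fixQ.mp hu).2 fun p hp => ?_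
        obtain ⟨hpK, hpF⟩ := hFmk p (mem_fixQ.mpr ⟨p.2, hp⟩)
        have h1 := hc _ ⟨_, hpF, rfl⟩
        have h2 := hinjF _ (mul_mem hpF hu) _ (mul_mem hu hpF) (by rw [map_mul, map_mul]; exact h1.eq)
        exact Subtype.ext (congrArg (fun x : K => (x : Subgroup.centralizer ({z} : Set G))) h2)
      rcases center_cases' hw hcen with h | h
      · exact Or.inl (by rw [show u = 1 from Subtype.ext h, map_one])
      · exact Or.inr (congrArg θ (Subtype.ext h))
    · have h0 : (1 : ℕ) < 2 ^ D.m := Nat.one_lt_two_pow (by rw [hm]; omega)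
      obtain ⟨j, -, hd⟩ := hnd 1 h0 (by norm_num)
      obtain ⟨p, hp, hpc⟩ := exists_fix hw hψ hD hb hi 1
      obtain ⟨q, hq, hqc⟩ := exists_fix hw hψ hD hb hi (2 ^ j)
      obtain ⟨hpK, hpF⟩ := hFmk p (mem_fixQ.mpr ⟨p.2, hp⟩)
      obtain ⟨hqK, hqF⟩ := hFmk q (mem_fixQ.mpr ⟨q.2, hq⟩)
      refine ⟨_, ⟨_, hpF, rfl⟩, _, ⟨_, hqF, rfl⟩, fun h => not_commute_of_dot hw hψ hpc hqc ?_ ?_⟩
      · rw [dot_smul, show ((D.vec 1 : leechLattice) : GolayPt → ℤ) = D.vecZ 1 D.m from vecN_coe hD _ D.m le_rfl,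
          show ((D.vec (2 ^ j) : leechLattice) : GolayPt → ℤ) = D.vecZ (2 ^ j) D.m from vecN_coe hD _ D.m le_rfl]
        exact hd
      · have h2 := hinjF _ (mul_mem hpF hqF) _ (mul_mem hqF hpF) (by rw [map_mul, map_mul]; exact h.eq)
        exact Subtype.ext (congrArg (fun x : K => (x : Subgroup.centralizer ({z} : Set G))) h2)
  -- the quotient
  set Φ := Phi e ρ hi with hΦ
  have hle : θ.ker ≤ Φ.ker := by
    intro u hu
    obtain ⟨i, hi'⟩ := hθeq u 1 (by rw [show θ u = 1 from hu, map_one])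
    rw [MonoidHom.mem_ker, show u = ⟨b, Subgroup.mem_centralizer_singleton_iff.mpr rfl⟩ ^ i from Subtype.ext (by
      rw [hi', Subgroup.coe_zpow, OneMemClass.coe_one, one_mul]), map_zpow, hΦ, phi_b hD ρ hi, one_zpow]
  set Φ' := θ.liftOfSurjective hθs ⟨Φ, hle⟩ with hΦ'
  have hΦ'θ : ∀ u, Φ' (θ u) = Φ u := fun u => MonoidHom.liftOfRightInverse_comp_apply θ _ _ ⟨Φ, hle⟩ u
  have hΦ's : Function.Surjective Φ' := fun π => by
    obtain ⟨u, hu⟩ := phi_surjective hw hD ρ hb hi π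
    exact ⟨θ u, (hΦ'θ u).trans hu⟩
  have hkerR : Φ'.ker = R := by
    refine le_antisymm (fun x hx => ?_) ?_
    · obtain ⟨u, rfl⟩ := hθs x
      obtain ⟨i, q, hq, huq⟩ := phi_ker hw hψ hD ρ hb hi (u := u) (by rw [← hΦ, ← hΦ'θ]; exact hx)
      obtain ⟨hqK, hqF⟩ := hFmk q hq
      refine ⟨⟨q, hqK⟩, hqF, Subtype.ext ?_⟩
      show η (ι ⟨q, hqK⟩) = η (ι u)
      refine QuotientGroup.eq.mpr ?_
      show ((q : G))⁻¹ * ((u : Subgroup.centralizer ({z} : Set G)) : G) ∈ B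
      rw [hB, huq]
      exact ⟨i, by simp⟩
    · rintro _ ⟨u, hu, rfl⟩
      rw [MonoidHom.mem_ker, hΦ'θ]
      exact phi_fix hD ρ hi hu
  let iso := (QuotientGroup.quotientMulEquivOfEq hkerR.symm).trans (QuotientGroup.quotientKerEquivOfSurjective Φ' hΦ's)
  have hreal : ∀ (g : Subgroup.centralizer (B : Set G)) (u : K), (u : Subgroup.centralizer ({z} : Set G)) ∈ Q →
      η (g * ⟨z, hzC⟩ * g⁻¹) = η (ι u) →
        (g : G) * z * (g : G)⁻¹ = ((u : Subgroup.centralizer ({z} : Set G)) : G) :=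
    fun g u hu h => by
      have h1 : (g * ⟨z, hzC⟩ * g⁻¹)⁻¹ * ι u ∈ B.subgroupOf _ := QuotientGroup.eq.mp h
      exact real_conj hw hbr hr2 hB hu ((hmemC _).mp g.2) h1
  refine ⟨t, R, hRn, ⟨horder, ?_, hex, hRcard, ?_⟩, ⟨iso⟩, fun hall => ?_, ?_⟩
  · refine genFitting_eq R (IsPGroup.of_card hRcard) (fun N hN hs => ?_) fun x hx => ?_
    · have := hns (N.map iso.toMonoidHom) (Subgroup.Normal.map hN _ iso.surjective) (hs.map iso.toMonoidHom)
      exact (Subgroup.map_eq_bot_iff_of_injective _ iso.injective).mp this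
    · obtain ⟨u, rfl⟩ := hθs x
      rw [← hkerR, MonoidHom.mem_ker, hΦ'θ]
      refine phi_of_centralises hw hψ hD ρ hb hi fun q hq => ?_
      obtain ⟨hqK, hqF⟩ := hFmk q hq
      have h1 := Subgroup.mem_centralizer_iff.mp hx _ ⟨_, hqF, rfl⟩
      obtain ⟨i, hi'⟩ := hθeq (u * ⟨q, hqK⟩ * u⁻¹) ⟨q, hqK⟩ (by
        rw [map_mul, map_mul, map_inv, ← h1, mul_inv_cancel_right])
      have h3 : (b ^ i : Subgroup.centralizer ({z} : Set G)) ∈ Q := by
        rw [show b ^ i = q⁻¹ * ((u * ⟨q, hqK⟩ * u⁻¹ : K) : Subgroup.centralizer ({z} : Set G)) by rw [hi']; group]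
        exact mul_mem (inv_mem (mem_fixQ.mp hq).1) ((inferInstance : Q.Normal).conj_mem _ (mem_fixQ.mp hq).1 _)
      rw [hBQ _ h3 (by rw [hB]; exact ⟨i, by simp⟩), mul_one] at hi'
      simp only [Subgroup.coe_mul, Subgroup.coe_inv] at hi'
      exact mul_inv_eq_iff_eq_mul.mp hi'
  · obtain ⟨c, hc, hcs⟩ := hswap
    obtain ⟨hqK, hqF⟩ := hFmk q0 (mem_fixQ.mpr ⟨q0.2, hq0⟩)
    refine ⟨η ⟨c, hc⟩⁻¹, ?_⟩
    have he : (θ ⟨q0, hqK⟩ : Hq) = η ⟨c, hc⟩⁻¹ * t * (η ⟨c, hc⟩⁻¹)⁻¹ := by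
      show η (ι ⟨q0, hqK⟩) = η ⟨c, hc⟩⁻¹ * η ⟨z, hzC⟩ * (η ⟨c, hc⟩⁻¹)⁻¹
      rw [← map_inv η (⟨c, hc⟩⁻¹ : Subgroup.centralizer (B : Set G)), ← map_mul, ← map_mul]
      refine congrArg η (Subtype.ext ?_)
      show ((q0 : Subgroup.centralizer ({z} : Set G)) : G) = c⁻¹ * z * c⁻¹⁻¹
      calc _ = c⁻¹ * (c * ((q0 : Subgroup.centralizer ({z} : Set G)) : G) * c⁻¹) * c⁻¹⁻¹ := by group
        _ = _ := by rw [hcs]
    refine ⟨⟨he ▸ (θ ⟨q0, hqK⟩).2, ?_⟩, fun h => ?_⟩
    · exact ⟨⟨q0, hqK⟩, hqF, Subtype.ext he⟩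
    · have h2 : θ ⟨q0, hqK⟩ = θ ⟨zC z, hzK⟩ := Subtype.ext ((he.trans h).trans htR'.symm)
      exact hq0z (congrArg (fun x : K => ((x : Subgroup.centralizer ({z} : Set G)) : G)) (hinjF _ hqF _ hzF h2))
  · rw [← count_fused hw hψ hD hb hi]
    symm
    refine Set.ncard_congr (fun q hq => θ ⟨q, (hFmk q hq.1).1⟩) (fun q hq => ⟨⟨_, (hFmk q hq.1).2, rfl⟩, ?_⟩)
      (fun q p hq hp h => congrArg (fun x : K => (x : Subgroup.centralizer ({z} : Set G)))
        (hinjF _ (hFmk q hq.1).2 _ (hFmk p hp.1).2 h)) ?_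
    · obtain ⟨c, hc, hcs⟩ := hall q hq.1 hq.2
      refine (isConj_iff.mpr ⟨η ⟨c, hc⟩, ?_⟩).symm
      show η ⟨c, hc⟩ * η (ι ⟨q, (hFmk q hq.1).1⟩) * (η ⟨c, hc⟩)⁻¹ = η ⟨z, hzC⟩
      rw [← map_inv, ← map_mul, ← map_mul]
      exact congrArg η (Subtype.ext hcs)
    · rintro x ⟨⟨u, hu, rfl⟩, hconj⟩
      refine ⟨u.1, ⟨hu, ?_⟩, rfl⟩
      obtain ⟨h, hh⟩ := isConj_iff.mp hconj
      obtain ⟨g, rfl⟩ := QuotientGroup.mk'_surjective _ h
      replace hh : η g * η ⟨z, hzC⟩ * (η g)⁻¹ = η (ι u) := hh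
      rw [← map_inv, ← map_mul, ← map_mul] at hh
      have h1 : (g * ⟨z, hzC⟩ * g⁻¹)⁻¹ * ι u ∈ B.subgroupOf _ := QuotientGroup.eq.mp hh
      set β := ((g : G) * z * (g : G)⁻¹)⁻¹ * ((u : Subgroup.centralizer ({z} : Set G)) : G) with hβ
      have h1' : β ∈ B := h1
      have hgC := hmemC _ |>.mp g.2
      obtain ⟨n, hn⟩ := hw.2.2.1.1.1 ⟨u.1, (mem_fixQ.mp hu).1⟩
      have hn' : ((u : Subgroup.centralizer ({z} : Set G)) : G) ^ 2 ^ n = 1 :=
        congrArg (fun t : Q => ((t : Subgroup.centralizer ({z} : Set G)) : G)) hn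
      have he : ((u : Subgroup.centralizer ({z} : Set G)) : G) = (g : G) * z * (g : G)⁻¹ * β := by rw [hβ]; group
      obtain ⟨i, hi'⟩ := Subgroup.mem_zpowers_iff.mp (hB ▸ h1' : β ∈ Subgroup.zpowers (b : G))
      have hbz : Commute (b : G) ((g : G) * z * (g : G)⁻¹) :=
        ((show Commute (b : G) g from hgC.symm).mul_right (Subgroup.mem_centralizer_singleton_iff.mp b.2)).mul_right
          (show Commute (b : G) g from hgC.symm).inv_right
      have hcomm : Commute ((g : G) * z * (g : G)⁻¹) β := hi' ▸ (hbz.symm.zpow_right i)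
      have hβn : β ^ 2 ^ (n + 1) = 1 := by
        have h3 : ((g : G) * z * (g : G)⁻¹) ^ 2 ^ (n + 1) = 1 := by
          rw [conj_pow, pow_succ', pow_mul, ← hw.1, pow_orderOf_eq_one, one_pow, mul_one, mul_inv_cancel]
        have h4 : ((u : Subgroup.centralizer ({z} : Set G)) : G) ^ 2 ^ (n + 1) = 1 := by
          rw [pow_succ, pow_mul, hn', one_pow]
        rw [he, hcomm.mul_pow, h3, one_mul] at h4
        exact h4
      have hβ2 : orderOf β ∣ D.r := by
        rw [← hi']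
        exact orderOf_dvd_of_pow_eq_one (by rw [← zpow_natCast, ← zpow_mul, mul_comm, zpow_mul, zpow_natCast, ← hbr,
          pow_orderOf_eq_one, one_zpow])
      have hone := orderOf_eq_one_iff.mp (Nat.eq_one_of_dvd_coprimes
        ((Nat.coprime_two_left.mpr hr2).pow_left (n + 1)) (orderOf_dvd_of_pow_eq_one hβn) hβ2)
      rw [hone, mul_one] at he
      exact isConj_iff.mpr ⟨g, he.symm⟩
  · rintro x ⟨_, ⟨u, hu, rfl⟩, hxe⟩ hxt
    obtain ⟨g, rfl⟩ := QuotientGroup.mk'_surjective _ x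
    replace hxe : η (g * ⟨z, hzC⟩ * g⁻¹) = η (ι u) := by
      rw [map_mul, map_mul, map_inv]; exact hxe.symm
    have hgu : (g : G) * z * (g : G)⁻¹ = ((u : Subgroup.centralizer ({z} : Set G)) : G) :=
      hreal g u (mem_fixQ.mp hu).1 hxe
    have huz : ((u : Subgroup.centralizer ({z} : Set G)) : G) ≠ z := fun e1 => hxt (by
      show η g * η ⟨z, hzC⟩ * (η g)⁻¹ = η ⟨z, hzC⟩
      rw [← map_inv, ← map_mul, ← map_mul]
      exact congrArg η (Subtype.ext (hgu.trans e1)))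
    obtain ⟨w, hwf, hwv, q, hqf, p', hp'f, hqv, hq1, hqc⟩ :=
      interlock_fixed hw hψ hD hb hps hpn hpx hstd hu hgu huz ((hmemC _).mp g.2)
    obtain ⟨hwK, hwF⟩ := hFmk w hwf
    obtain ⟨hqK, hqF⟩ := hFmk q hqf
    obtain ⟨hpK, hpF⟩ := hFmk p' hp'f
    refine ⟨⟨_, ⟨⟨w, hwK⟩, hwF, rfl⟩, ?_⟩, θ ⟨q, hqK⟩, ⟨_, hqF, rfl⟩, ⟨_, ⟨⟨p', hpK⟩, hpF, rfl⟩, ?_⟩, ?_, ?_⟩
    · show η (ι ⟨w, hwK⟩) = (η g)⁻¹ * η ⟨z, hzC⟩ * η g
      rw [← map_inv, ← map_mul, ← map_mul]
      exact congrArg η (Subtype.ext hwv)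
    · show η (ι ⟨p', hpK⟩) = (η g)⁻¹ * η (ι ⟨q, hqK⟩) * η g
      rw [← map_inv, ← map_mul, ← map_mul]
      exact congrArg η (Subtype.ext hqv)
    · exact fun e1 => hq1 (congrArg (fun y : K => (y : Subgroup.centralizer ({z} : Set G)))
        (hinjF _ hqF 1 (one_mem _) (e1.trans (map_one θ).symm)))
    · intro hc
      obtain ⟨h, hh⟩ := isConj_iff.mp hc
      obtain ⟨k', rfl⟩ := QuotientGroup.mk'_surjective _ h
      refine hqc (isConj_iff.mpr ⟨(k' : G), hreal k' ⟨q, hqK⟩ (mem_fixQ.mp hqf).1 ?_⟩)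
      rw [map_mul, map_mul, map_inv]
      exact hh

end Cfsg.Lib.Leech.MonsterSection
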