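import Cfsg.Agent.HeldMonster.Section
import Cfsg.Agent.Leech.MonsterSection.OkSeven
import Cfsg.Agent.Leech.MonsterSection.Targets
import Cfsg.Agent.Leech.MonsterSection.OkSevenInv

/-!
The section of an element of order seven in a group of Monster type has interlocked radicals.
-/

set_option autoImplicit false
set_option maxRecDepth 100000
set_option linter.style.haveILetI false

namespace Cfsg.Lib.Leech.MonsterSection

open Cfsg Cfsg.Lib.Golay Cfsg.Lib.Leech Stab
open Cfsg.Lib.PermCert (ap)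

/-- Four times the sum of two fixed points of the permutation of order seven. -/
def sevenPairVec : GolayPt → ℤ := pairVec (ptAt 0) (ptAt 5) 1

theorem sevenPair_facts : (∀ i : Fin 24, sevenPairVec (ptAt (ap sevenD.sig.1 i.val)) = sevenPairVec (ptAt i.val)) ∧
    (∀ q : GolayPt, ∃ i : Fin 24, ptAt (ap sevenD.sig.1 i.val) = q) ∧ ptAt 0 ≠ ptAt 5 := by decide +kernel

theorem sevenPair_singular : sevenPairVec ∈ singular :=
  ⟨0, fun k => (if k = ptAt 0 then 1 else 0) + if k = ptAt 5 then 1 else 0,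
    fun k => by simp [sevenPairVec, pairVec],
    by rw [Finset.sum_add_distrib, Finset.sum_ite_eq', Finset.sum_ite_eq', if_pos (Finset.mem_univ _),
      if_pos (Finset.mem_univ _)]; rfl⟩

theorem sevenPair_fixed : sevenD.x • (⟨sevenPairVec, pairVec_mem (Or.inl rfl)⟩ : leechLattice) =
    ⟨sevenPairVec, pairVec_mem (Or.inl rfl)⟩ := by
  obtain ⟨h1, h2, -⟩ := sevenPair_facts
  refine Subtype.ext (funext fun q => ?_)
  obtain ⟨i, rfl⟩ := h2 q
  rw [x_apply sevenCls _ i.2]
  exact (h1 i).symm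

variable {G : Type*} [Group G] [Finite G] {z : G} {Q : Subgroup (Subgroup.centralizer ({z} : Set G))} [Q.Normal]

/-- The section of an element of order seven. -/
theorem seven_linked (hM : Cfsg.IsOfMonsterType z Q) {s : G}
    (hsQ : ∃ hsc : s ∈ Subgroup.centralizer ({z} : Set G), (⟨s, hsc⟩ : Subgroup.centralizer ({z} : Set G)) ∈ Q)
    (hs : IsConj z s) (hs1 : s ≠ z) {B : Subgroup G} (hB : B ≤ Subgroup.centralizer ({z, s} : Set G))
    (hBp : Nat.card B = 7 ^ (Nat.card ↥(Subgroup.centralizer ({z, s} : Set G))).factorization 7)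
    [(B.subgroupOf (Subgroup.centralizer (B : Set G))).Normal] :
    ∃ (t : ↥(Subgroup.centralizer (B : Set G)) ⧸ B.subgroupOf (Subgroup.centralizer (B : Set G)))
      (R : Subgroup (Subgroup.centralizer
        ({t} : Set (↥(Subgroup.centralizer (B : Set G)) ⧸ B.subgroupOf (Subgroup.centralizer (B : Set G))))))
      (_ : R.Normal),
      Cfsg.IsExtraspecialCentralizerSetting t R 3 ∧
      Nonempty ((Subgroup.centralizer
        ({t} : Set (↥(Subgroup.centralizer (B : Set G)) ⧸ B.subgroupOf (Subgroup.centralizer (B : Set G))))) ⧸ R ≃*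
          Matrix.SpecialLinearGroup (Fin 3) (ZMod 2)) ∧
      Set.ncard {x : Subgroup.centralizer
          ({t} : Set (↥(Subgroup.centralizer (B : Set G)) ⧸ B.subgroupOf (Subgroup.centralizer (B : Set G)))) |
          x ∈ R ∧ IsConj t (x : ↥(Subgroup.centralizer (B : Set G)) ⧸ B.subgroupOf (Subgroup.centralizer (B : Set G)))}
        = 29 ∧
      HeldMonster.Interlock t R := by
  obtain ⟨hw, e, ψ, hψ⟩ := hM
  haveI : Fact (Nat.Prime 2) := ⟨Nat.prime_two⟩
  have hnd : NondegOK sevenD := sevenNondeg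
  have hr : sevenD.r = 7 := rfl
  obtain ⟨hsc, hsm⟩ := hsQ
  set a : Q := ⟨⟨s, hsc⟩, hsm⟩
  have hcard : Nat.card B = 7 := by
    rw [hBp, card_pair hw hψ (a := a) hs hs1 (r := 7) (by norm_num) (by decide),
      show (244823040 : ℕ) = 7 ^ 1 * 34974720 by norm_num, Nat.factorization_mul (by norm_num) (by norm_num),
      Finsupp.add_apply, (Nat.Prime.factorization_pow (by norm_num)), Finsupp.single_eq_same,
      Nat.factorization_eq_zero_of_not_dvd (by norm_num : ¬ 7 ∣ 34974720)]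
    rfl
  have hstd : ClassHyp z Q e ψ sevenD (fun _ _ => True) := classHyp_sylow hw hψ sevenCls sevenAct
    (by show 7 ∣ 244823040 ∧ ¬ 7 ^ 2 ∣ 244823040; norm_num)
  obtain ⟨⟨x0, hx0⟩, hx1⟩ : ∃ x : B, x ≠ 1 := by
    haveI : Nontrivial B := Finite.one_lt_card_iff_nontrivial.mp (by rw [hcard]; norm_num)
    exact exists_ne 1
  obtain ⟨hxc, hxa⟩ := mem_pair (a := a) (hB hx0)
  have hox : orderOf x0 = 7 := by
    have h1 : orderOf x0 ∣ 7 := hcard ▸ Subgroup.orderOf_dvd_natCard B hx0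
    exact ((Nat.dvd_prime (by norm_num)).mp h1).resolve_left fun h => hx1 (Subtype.ext (orderOf_eq_one_iff.mp h))
  obtain ⟨i, hi, k, -, himg⟩ := hstd a hs hs1 ⟨⟨x0, hxc⟩, hxa⟩
    (by rw [← Subgroup.orderOf_coe, ← Subgroup.orderOf_coe]; exact hox.trans hr.symm) trivial
  set bb : CQa a := (⟨⟨x0, hxc⟩, hxa⟩ : CQa a) ^ i with hbb
  set b : Subgroup.centralizer ({z} : Set G) := bb.1 with hb'
  have hbo : orderOf b = sevenD.r := by rw [hb', Subgroup.orderOf_coe]; exact hi
  have hbG : (b : G) = x0 ^ i := by simp [hb', hbb]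
  have hBb : B = Subgroup.zpowers (b : G) := (Subgroup.eq_of_le_of_card_ge
    (Subgroup.zpowers_le.mpr (hbG ▸ Subgroup.zpow_mem _ hx0 _)) (by
    rw [Nat.card_zpowers, Subgroup.orderOf_coe, hbo, hcard, hr])).symm
  have hcom : ∀ c : G, c * (b : G) = (b : G) * c → c ∈ Subgroup.centralizer (B : Set G) := by
    intro c hc y hy
    rw [hBb] at hy
    obtain ⟨j, rfl⟩ := Subgroup.mem_zpowers_iff.mp hy
    exact ((Commute.zpow_right hc j).symm).eq
  have hsw : ∀ q : Q, (q : Subgroup.centralizer ({z} : Set G)) * b = b * q →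
      IsConj z ((q : Subgroup.centralizer ({z} : Set G)) : G) →
      ((q : Subgroup.centralizer ({z} : Set G)) : G) ≠ z →
      ∃ c ∈ Subgroup.centralizer (B : Set G), c * ((q : Subgroup.centralizer ({z} : Set G)) : G) * c⁻¹ = z := by
    intro q hqb hqc hqz
    obtain ⟨c, hcb, hcs⟩ := swap hw hψ sevenCls (show sevenD.r.Prime from sevenAct.prime) hnd (fun _ => True) hqc hqz
      (b := ⟨b, mem_CQa.mpr hqb.symm⟩) (by rw [← Subgroup.orderOf_coe]; exact hbo) trivial (fun _ _ _ => trivial)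
      (fun b' h _ => hstd q hqc hqz b' h trivial)
    exact ⟨c, hcom c hcb, hcs⟩
  obtain ⟨t, R, hR, h1, ⟨h2⟩, h3, h4⟩ := linked_type hw hψ sevenCls (repOf sevenCls sevenAct) hbo himg hBb
    (w := 3) (by norm_num) (by decide +kernel) hnd
    (fun N hN hp => seven_target.2 N hN (by haveI := hp.isNilpotent; infer_instance))
    (q0 := a) (mem_CQa.mp bb.2).symm hs1 (hsw a (mem_CQa.mp bb.2).symm hs hs1)
    (p := ⟨sevenPairVec, pairVec_mem (Or.inl rfl)⟩) sevenPair_singular
    (pairVec_norm sevenPair_facts.2.2 (Or.inl rfl)) sevenPair_fixed hstd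
  obtain ⟨f⟩ := seven_target.1
  refine ⟨t, R, hR, h1, ⟨h2.trans f⟩, (h3 fun q hq hqc => ?_).trans
    (show 1 + 2 * sevenD.n64 = 29 by decide +kernel), h4⟩
  by_cases hqz : (q : G) = z
  · exact ⟨1, one_mem _, by simp [hqz]⟩
  obtain ⟨hqQ, hqb⟩ := mem_fixQ.mp hq
  exact hsw ⟨q, hqQ⟩ hqb hqc hqz

end Cfsg.Lib.Leech.MonsterSection
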