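import Cfsg.Agent.HeldCent.GoodModel
import Cfsg.Agent.HeldMonster.Reduce
import Cfsg.Agent.HeldType.CasesTop
import Cfsg.Agent.Components.GenFitting
import Cfsg.Prelude.Def_MonsterType

/-!
A group of Held type whose conjugate radicals are interlocked is the Held group.
-/

set_option autoImplicit false
set_option maxRecDepth 100000

namespace Cfsg.Lib.HeldMonster

open Cfsg.Lib.HeldType

/-- A code of the radical. -/
def isRad (c : ℕ) : Bool := Nat.blt (kOf c / 168) 128 && Nat.beq (radOf (kOf c / 168)) c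

theorem isRad_radOf : ∀ q : Fin 128, isRad (radOf q.val) = true := by decide +kernel

/-- An option in which the meet of the two radicals is fused. -/
def linOK (D : SideD) (i : ℕ) : Bool :=
  allR (fun k => valid ((D.fwd.get i).get k) && (!(isRad (D.C.el.get k) && isRad ((D.fwd.get i).get k)) ||
    Nat.beq ((D.fwd.get i).get k) cOne || Nat.beq (classOf ((D.fwd.get i).get k)) 0 ||
      Nat.beq (classOf ((D.fwd.get i).get k)) 3 || Nat.beq (classOf ((D.fwd.get i).get k)) 5)) 0 D.C.n

theorem lin_one : linOK oneSide 2 = true := by decide +kernel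

theorem lin_two : linOK twoSide 0 = true := by decide +kernel

theorem rad_classes : ∀ q : Fin 128, cm (radOf q.val) (radOf q.val) = cOne → radOf q.val ≠ cOne →
    classOf (radOf q.val) = 0 ∨ classOf (radOf q.val) = 3 ∨ classOf (radOf q.val) = 5 ∨
      classOf (radOf q.val) = 6 := by decide +kernel

theorem rad_reps : ∃ q < 128, ∃ q' < 128, radOf q = oneSide.C.x ∧ radOf q' = twoSide.C.x := by decide +kernel

theorem card_filter_list (f : ℕ → Bool) (n : ℕ) :
    Nat.card {q : Fin n // f q.val = true} = ((List.range n).filter f).length := by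
  rw [Nat.card_eq_fintype_card, Fintype.card_subtype, ← List.toFinset_card_of_nodup (List.nodup_range.filter _)]
  refine Finset.card_bij (fun q _ => q.val) (fun q hq => ?_) (fun a _ b _ h => Fin.ext h) fun q hq => ?_
  · simp only [Finset.mem_filter, Finset.mem_univ, true_and] at hq
    simp [hq]
  · simp only [List.mem_toFinset, List.mem_filter, List.mem_range] at hq
    exact ⟨⟨q, hq.1⟩, by simp [hq.2], rfl⟩

theorem radOf_inj {a b : ℕ} (ha : a < 128) (hb : b < 128) (h : radOf a = radOf b) : a = b := by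
  have key : ∀ q : Fin 128, kOf (radOf q.val) / 168 = q.val := by decide +kernel
  have := key ⟨a, ha⟩
  rw [show radOf (⟨a, ha⟩ : Fin 128).val = radOf b from h, show radOf b = radOf (⟨b, hb⟩ : Fin 128).val from rfl,
    key ⟨b, hb⟩] at this
  exact this.symm

/-- A union of classes in the radical. -/
def selC (b c : Bool) (q : ℕ) : Bool :=
  let i := classOf (radOf q)
  Nat.beq i 3 || (b && Nat.beq i 0) || (c && Nat.beq i 5)

theorem cnt_sides : ∀ b c : Bool, ((List.range 128).filter (selC b c)).length = 29 → b = true ∧ c = true := by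
  decide +kernel

theorem sides_ne : oneSide.C.x ≠ cZ ∧ twoSide.C.x ≠ cZ := by decide +kernel

theorem card_cs : Nat.card cs = 21504 := by
  have hz : orderOf sEl = 2 := orderOf_eq_prime
    (Subtype.ext (show mat cZ ^ 2 = 1 by rw [pow_two, ← mat_cm, ← mat_one]; decide +kernel))
    (fun e => absurd (mat_inj (valid_lt valid_z) (valid_lt valid_one)
      ((congrArg Subtype.val e).trans mat_one.symm)) (by decide))
  obtain ⟨S, hS, -, -⟩ := exists_setting (G := SL5) sEl mat_z sEl hz (MulEquiv.refl _)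
  have h := S.card_K
  rw [Setting.K, hS] at h
  exact h

variable {H : Type*} [Group H] [Finite H] {t : H}

/-- The data of a radical: every conjugate in it and the interlocking. -/
structure Radical (S : Setting H) : Prop where
  fused : S.Fus 0 ∧ S.Fus 5
  meet : ∀ (g : H) (x : ℕ), x < 128 → g * S.z * g⁻¹ = S.η (radOf x) → S.η (radOf x) ≠ S.z →
    ∃ q < 128, ∃ p < 128, g⁻¹ * S.η (radOf q) * g = S.η (radOf p) ∧ S.η (radOf q) ≠ 1 ∧
      ¬ IsConj S.z (S.η (radOf q))

theorem rad_valid' {q : ℕ} (hq : q < 128) : valid (radOf q) = true :=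
  List.all_eq_true.mp rad_valid q (List.mem_range.mpr hq)

theorem not_linear {S : Setting H} (hS : Radical S) {D : SideD} {i : ℕ} (hl : linOK D i = true) (hC : D.C.ok = true)
    {x : ℕ} (hx : x < 128) (hxe : radOf x = D.C.x) (hne : D.C.x ≠ cZ) {t : H} (ht : S.Acts D i t) : False := by
  obtain ⟨⟨t1, t2⟩, hfwd⟩ := ht
  have hxv := CentData.x_valid hC
  obtain ⟨q, hq, p, hp, hqp, hq1, hnc⟩ := hS.meet t x hx (by rw [t1, hxe, mul_inv_cancel_right]) (fun e => by
    refine hne (S.η_inj hxv valid_z ?_)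
    rw [← hxe, e, S.η_z])
  have vq := rad_valid' hq
  have vp := rad_valid' hp
  have tz : t⁻¹ * S.z * t = S.η D.C.x := by
    calc t⁻¹ * S.z * t = t⁻¹ * (S.z * t) := mul_assoc _ _ _
      _ = t⁻¹ * (t * S.η D.C.x) := by rw [t2]
      _ = S.η D.C.x := inv_mul_cancel_left _ _
  have hpx : cm (radOf p) D.C.x = cm D.C.x (radOf p) := S.η_inj (valid_cm vp hxv) (valid_cm hxv vp) (by
    rw [S.η_mul vp hxv, S.η_mul hxv vp, ← hqp, ← tz]
    calc t⁻¹ * S.η (radOf q) * t * (t⁻¹ * S.z * t) = t⁻¹ * (S.η (radOf q) * S.z) * t := by group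
      _ = t⁻¹ * (S.z * S.η (radOf q)) * t := by rw [S.η_comm vq]
      _ = _ := by group)
  obtain ⟨k, hk, hke⟩ := CentData.complete hC vp hpx
  have hchk := allR_sound _ _ _ hl k (Nat.zero_le _) (by omega)
  have hrel := hfwd k hk
  rw [hke, ← hqp] at hrel
  have hfq : S.η ((D.fwd.get i).get k) = S.η (radOf q) := by
    refine mul_right_cancel (b := t) ?_
    rw [← hrel]; group
  simp only [Bool.and_eq_true] at hchk
  obtain ⟨hvf, hchk⟩ := hchk
  have e : (D.fwd.get i).get k = radOf q := S.η_inj hvf vq hfq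
  have hrad : isRad (D.C.el.get k) = true := by rw [hke]; exact isRad_radOf ⟨p, hp⟩
  have hq' : isRad (radOf q) = true := isRad_radOf ⟨q, hq⟩
  simp only [hrad, e, hq', Bool.and_self, Bool.not_true, Bool.false_or, Bool.or_eq_true] at hchk
  have hF : ∀ j, j < 8 → classOf (radOf q) = j → S.Fus j → False := fun j hj hc hf => hnc (by
    have := (S.conj_class (c := radOf q) (hc ▸ hj)).2
    rw [hc] at this
    exact hf.trans this)
  rcases hchk with ((h | h) | h) | h
  · exact hq1 (by rw [Nat.eq_of_beq_eq_true h, S.η_one])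
  · exact hF 0 (by norm_num) (Nat.eq_of_beq_eq_true h) hS.fused.1
  · exact hF 3 (by norm_num) (Nat.eq_of_beq_eq_true h) (by rw [Setting.Fus, rep_three, S.η_z])
  · exact hF 5 (by norm_num) (Nat.eq_of_beq_eq_true h) hS.fused.2

/-- With both sides fused and no linear option the group is the Held group. -/
theorem iso_of_radical {S : Setting H} (hS : Radical S) : Cfsg.Spor.IsoHe H := by
  obtain ⟨q, hq, q', hq', e0, e5⟩ := rad_reps
  obtain ⟨i, t0, hi, h0, hn0, -, -⟩ := S.option_one hS.fused.1
  obtain ⟨j, t1, hj, h1, hn2, -⟩ := S.option_two hS.fused.2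
  have hC1 : oneSide.C.ok = true := one_ok.cent
  have hC2 : twoSide.C.ok = true := two_ok.cent
  have hi1 : i = 1 := by
    have := hn0 hS.fused.2
    have : i ≠ 2 := fun e => not_linear hS lin_one hC1 hq e0 sides_ne.1 (e ▸ h0)
    omega
  have hj1 : j = 1 := by
    have := hn2 hS.fused.1
    have : j ≠ 0 := fun e => not_linear hS lin_two hC2 hq' e5 sides_ne.2 (e ▸ h1)
    omega
  subst hi1 hj1
  exact he_of_sides h0 h1

/-- A group of Held type with interlocked radicals is the Held group. -/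
theorem iso_he (R : Subgroup (Subgroup.centralizer ({t} : Set H))) [R.Normal]
    (hw : Cfsg.IsExtraspecialCentralizerSetting t R 3)
    (e : (Subgroup.centralizer ({t} : Set H)) ⧸ R ≃* Matrix.SpecialLinearGroup (Fin 3) (ZMod 2))
    (hcount : Set.ncard {x : Subgroup.centralizer ({t} : Set H) | x ∈ R ∧ IsConj t (x : H)} = 29)
    (hlink : Interlock t R) : Cfsg.Spor.IsoHe H := by
  obtain ⟨ht, hF, hX, hcard, -⟩ := hw
  have hcard' : Nat.card R = 128 := by rw [hcard]; norm_num
  have hself : Subgroup.centralizer (R : Set (Subgroup.centralizer ({t} : Set H))) ≤ R := by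
    rw [← hF]; exact Cfsg.Lib.Components.centralizer_genFitting_le
  obtain ⟨D, hιR, hRι, hinj, hsur⟩ := exists_gen_first ht hlink hX hcard' hself e hcount
  obtain ⟨D', -⟩ := Cfsg.Lib.HeldCent.exists_model
  have hC : Nat.card (Subgroup.centralizer ({t} : Set H)) = 21504 := by
    choose co hco hcoe using hsur
    rw [Nat.card_congr (⟨fun g => (⟨co g, hco g⟩ : Fin 21504), fun a => D.η a.val, hcoe,
      fun a => Fin.ext (hinj (hco _) a.2 (hcoe _))⟩ : _ ≃ Fin 21504), Nat.card_fin]
  obtain ⟨φ, -⟩ := Cfsg.Lib.HeldCent.exists_iso D (parI_ok 0) hinj hsur hC R hRι hself D' card_cs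
  obtain ⟨S, hSz, -, hcore⟩ := exists_setting sEl mat_z t ht φ
  haveI : Fact (Nat.Prime 2) := ⟨Nat.prime_two⟩
  have hRad : ∀ x ∈ R, ∃ q < 128, S.η (radOf q) = (x : H) := fun x hx =>
    hcore x (Cfsg.Lib.Components.le_pCore (IsPGroup.of_card (n := 7) (by rw [hcard']; norm_num)) hx)
  choose qf hqf hqe using hRad
  have hbij : Function.Bijective fun x : R => (⟨qf x.1 x.2, hqf x.1 x.2⟩ : Fin 128) := by
    refine Function.Injective.bijective_of_nat_card_le (fun x y h => ?_) (by rw [Nat.card_fin, hcard'])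
    have h' := congrArg (fun q : Fin 128 => S.η (radOf q.val)) h
    simp only [hqe] at h'
    exact Subtype.ext (Subtype.ext h')
  have hmem : ∀ q < 128, ∃ x ∈ R, (x : H) = S.η (radOf q) := fun q hq => by
    obtain ⟨x, hx⟩ := hbij.2 ⟨q, hq⟩
    exact ⟨x.1, x.2, by rw [← hqe x.1 x.2]; exact congrArg (fun q : Fin 128 => S.η (radOf q.val)) hx⟩
  refine iso_of_radical (S := S) ⟨?_, fun g x hx hg hne => ?_⟩
  · classical
    have h6 := S.not_fus_mixed
    have hsel : ∀ q < 128, IsConj S.z (S.η (radOf q)) ↔ selC (decide (S.Fus 0)) (decide (S.Fus 5)) q = true := by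
      intro q hq
      have hcl : ∀ j < 8, classOf (radOf q) = j → (IsConj S.z (S.η (radOf q)) ↔ S.Fus j) := fun j hj hc => by
        have := (S.conj_class (c := radOf q) (hc ▸ hj)).2
        rw [hc] at this
        exact ⟨fun h => h.trans this.symm, fun h => h.trans this⟩
      simp only [selC, Bool.or_eq_true, Bool.and_eq_true, decide_eq_true_eq]
      constructor
      · intro hc
        obtain ⟨h1, h2⟩ := conj_sq (t := S.z) S.z_ord hc
        have v := rad_valid' hq
        rcases rad_classes ⟨q, hq⟩ (S.η_inj (valid_cm v v) valid_one (by rw [S.η_mul v v, S.η_one, h1]))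
          (fun e => h2 (by rw [e, S.η_one])) with h | h | h | h
        · exact Or.inl (Or.inr ⟨(hcl 0 (by norm_num) h).mp hc, by rw [h]; rfl⟩)
        · exact Or.inl (Or.inl (by rw [h]; rfl))
        · exact Or.inr ⟨(hcl 5 (by norm_num) h).mp hc, by rw [h]; rfl⟩
        · exact absurd ((hcl 6 (by norm_num) h).mp hc) h6
      · rintro ((h | ⟨h, h'⟩) | ⟨h, h'⟩)
        · exact (hcl 3 (by norm_num) (Nat.eq_of_beq_eq_true h)).mpr (by rw [Setting.Fus, rep_three, S.η_z])
        · exact (hcl 0 (by norm_num) (Nat.eq_of_beq_eq_true h')).mpr h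
        · exact (hcl 5 (by norm_num) (Nat.eq_of_beq_eq_true h')).mpr h
    have := cnt_sides (decide (S.Fus 0)) (decide (S.Fus 5)) (by
      rw [← hcount]
      rw [show ((List.range 128).filter (selC (decide (S.Fus 0)) (decide (S.Fus 5)))).length =
        Nat.card {q : Fin 128 // selC (decide (S.Fus 0)) (decide (S.Fus 5)) q.val = true} from ?_]
      · rw [← Nat.card_coe_set_eq]
        refine Nat.card_congr (Equiv.ofBijective (fun q => ⟨(hmem q.1.1 q.1.2).choose,
          (hmem q.1.1 q.1.2).choose_spec.1, ?_⟩) ⟨fun a b h => ?_, fun x => ?_⟩)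
        · rw [(hmem q.1.1 q.1.2).choose_spec.2, ← hSz]; exact (hsel q.1.1 q.1.2).mpr q.2
        · have h1 := congrArg (fun y : {x : Subgroup.centralizer ({t} : Set H) | x ∈ R ∧ IsConj t (x : H)} =>
            ((y : Subgroup.centralizer ({t} : Set H)) : H)) h
          simp only [(hmem a.1.1 a.1.2).choose_spec.2, (hmem b.1.1 b.1.2).choose_spec.2] at h1
          exact Subtype.ext (Fin.ext (radOf_inj a.1.2 b.1.2 (S.η_inj (rad_valid' a.1.2) (rad_valid' b.1.2) h1)))
        · obtain ⟨hx1, hx2⟩ := x.2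
          refine ⟨⟨⟨qf x.1 hx1, hqf x.1 hx1⟩, (hsel _ (hqf _ hx1)).mp ?_⟩, Subtype.ext (Subtype.ext ?_)⟩
          · rw [hSz, hqe]; exact hx2
          · exact ((hmem _ (hqf x.1 hx1)).choose_spec.2).trans (hqe x.1 hx1)
      · exact (card_filter_list _ _).symm)
    exact ⟨of_decide_eq_true this.1, of_decide_eq_true this.2⟩
  · obtain ⟨y, hy, hye⟩ := hmem x hx
    obtain ⟨-, q, hqR, ⟨p, hpR, hpe⟩, hq1, hnc⟩ := hlink g ⟨y, hy, by rw [hye, ← hg, hSz]⟩
      (by rw [← hSz, hg]; exact hne)
    refine ⟨qf q hqR, hqf q hqR, qf p hpR, hqf p hpR, ?_, ?_, ?_⟩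
    · rw [hqe, hqe, hpe]
    · rw [hqe]; exact fun h => hq1 (Subtype.ext h)
    · rw [hqe, hSz]; exact hnc

end Cfsg.Lib.HeldMonster
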